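import Cfsg.Agent.H50.WA.Model
import Cfsg.Agent.Cores.PCore
import Mathlib.GroupTheory.Transfer

/-!
# The covering statement

A quasisimple cover of `Sz(q)` or `PSU₃(q)` whose Sylow 2-subgroup has the square roots of central
elements in `B Z(L)`, `B` elementary and central in it, has trivial centre.
-/

set_option autoImplicit false
set_option linter.unusedSectionVars false
set_option linter.style.haveILetI false

namespace Cfsg.Agent.H50.WA

open Subgroup Cfsg.Agent

universe u

/-- In a group whose squares lie in a subgroup avoiding `z` a character of order two does not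
vanish at `z`. -/
theorem exists_char {A : Type*} [Group A] [Finite A] (M₀ : Subgroup A) (hsq : ∀ a : A, a * a ∈ M₀)
    {z : A} (hz : z ∉ M₀) :
    ∃ χ : A →* Multiplicative (ZMod 2), (∀ m ∈ M₀, χ m = 1) ∧ χ z ≠ 1 := by
  classical
  obtain ⟨M, hM₀, hM⟩ := Finite.exists_le_maximal (p := fun M : Subgroup A => M₀ ≤ M ∧ z ∉ M)
    (a := M₀) ⟨le_rfl, hz⟩
  obtain ⟨⟨hle, hzM⟩, hmax⟩ := hM
  have hsqM : ∀ a : A, a * a ∈ M := fun a => hle (hsq a)
  have hinv : ∀ a : A, a⁻¹ * a⁻¹ ∈ M := fun a => hsqM _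
  have hcomm : ∀ a b : A, a * b * a⁻¹ * b⁻¹ ∈ M := fun a b => by
    rw [show a * b * a⁻¹ * b⁻¹ = a * a * ((a⁻¹ * b) * (a⁻¹ * b)) * (b⁻¹ * b⁻¹) by group]
    exact mul_mem (mul_mem (hsqM a) (hsqM _)) (hinv b)
  have hswap : ∀ {a b : A}, a * b ∈ M → b * a ∈ M := fun {a b} h => by
    rw [show b * a = b * a * b⁻¹ * a⁻¹ * (a * b) by group]
    exact mul_mem (hcomm b a) h
  have hcase : ∀ a : A, a ∉ M → z * a ∈ M := by
    intro a ha
    by_contra hza
    let M' : Subgroup A :=
      { carrier := {x | x ∈ M ∨ a * x ∈ M}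
        one_mem' := Or.inl M.one_mem
        mul_mem' := fun {x y} hx hy => by
          rcases hx with hx | hx <;> rcases hy with hy | hy
          · exact Or.inl (mul_mem hx hy)
          · refine Or.inr ?_
            rw [show a * (x * y) = a * x * a⁻¹ * x⁻¹ * x * (a * y) by group]
            exact mul_mem (mul_mem (hcomm a x) hx) hy
          · exact Or.inr (by rw [← mul_assoc]; exact mul_mem hx hy)
          · refine Or.inl ?_
            rw [show x * y = (a * x * a⁻¹ * x⁻¹)⁻¹ * (a * x * ((a * a)⁻¹ * (a * y))) by group]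
            exact mul_mem (inv_mem (hcomm a x)) (mul_mem hx (mul_mem (inv_mem (hsqM a)) hy))
        inv_mem' := fun {x} hx => by
          rcases hx with hx | hx
          · exact Or.inl (inv_mem hx)
          · refine Or.inr (hswap ?_)
            rw [show x⁻¹ * a = (a * x)⁻¹ * (a * a) by group]
            exact mul_mem (inv_mem hx) (hsqM a) }
    have hMM' : M ≤ M' := fun x hx => Or.inl hx
    have haM' : a ∈ M' := Or.inr (hsqM a)
    have hzM' : z ∉ M' := fun h => h.elim hzM fun h => hza (hswap h)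
    exact ha (hmax (y := M') ⟨hle.trans hMM', hzM'⟩ hMM' haM')
  let χ : A →* Multiplicative (ZMod 2) := MonoidHom.mk'
    (fun a => if a ∈ M then 1 else Multiplicative.ofAdd 1) fun a b => by
      by_cases ha : a ∈ M <;> by_cases hb : b ∈ M
      · simp [ha, hb, mul_mem ha hb]
      · have : a * b ∉ M := fun h => hb ((mul_mem_cancel_left ha).1 h)
        simp [ha, hb, this]
      · have : a * b ∉ M := fun h => ha ((mul_mem_cancel_right hb).1 h)
        simp [ha, hb, this]
      · have hab : a * b ∈ M := by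
          have h1 := mul_mem (hswap (hcase a ha)) (mul_mem (inv_mem (hsqM z)) (hcase b hb))
          rwa [show a * z * ((z * z)⁻¹ * (z * b)) = a * b by group] at h1
        rw [if_pos hab, if_neg ha, if_neg hb]
        decide
  refine ⟨χ, fun m hm => if_pos (hle hm), fun h => ?_⟩
  simp [χ, hzM] at h

theorem char_sq {A : Type*} [Group A] (χ : A →* Multiplicative (ZMod 2)) (a : A) :
    χ (a * a) = 1 := by
  rw [map_mul]
  generalize χ a = c
  revert c
  decide

theorem zmod_two_mul_self : ∀ c : Multiplicative (ZMod 2), c * c = 1 := by decide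

theorem zmod_two_contra : ∀ a b c : Multiplicative (ZMod 2), a ≠ 1 → b * (a * a) = a →
    c * (a * a) = a → b * c * (a * a) = a → False := by decide

theorem center_eq_bot {L : Type u} [Group L] [Finite L] (hL : Cfsg.IsQuasisimple L)
    (hO : Cfsg.oddCore L = ⊥) (hmodel : ∀ S : Sylow 2 (L ⧸ center L), ∃ V, Model S V)
    (T : Sylow 2 L) (B : Subgroup L) (hBT : B ≤ (T : Subgroup L))
    (hB : Cfsg.IsElementaryAbelian 2 B) (hTB : (T : Subgroup L) ≤ centralizer (B : Set L))
    (hroot : ∀ t ∈ (T : Subgroup L), t * t ∈ center L → t ∈ B ⊔ center L) : center L = ⊥ := by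
  classical
  haveI : Fact (Nat.Prime 2) := ⟨Nat.prime_two⟩
  by_contra hne
  -- the centre is a 2-group
  have hZ2 : IsPGroup 2 ↥(center L) := by
    intro z
    obtain ⟨a, o, ho, hao⟩ := Nat.exists_eq_two_pow_mul_odd (orderOf_pos z).ne'
    refine ⟨a, ?_⟩
    have heo : orderOf (z ^ 2 ^ a) = o := by
      rw [orderOf_pow' _ (by positivity), hao, Nat.gcd_mul_right_left,
        Nat.mul_div_cancel_left _ (by positivity)]
    haveI : (zpowers ((z ^ 2 ^ a : center L) : L)).Normal := ⟨fun x hx g => by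
      have hxc : x ∈ center L := zpowers_le.2 (z ^ 2 ^ a : center L).2 hx
      rwa [mem_center_iff.1 hxc g, mul_inv_cancel_right]⟩
    have h1 := Cores.le_oddCore (N := zpowers ((z ^ 2 ^ a : center L) : L))
      (by rw [Nat.card_zpowers, Subgroup.orderOf_coe, heo]; exact ho)
    rw [hO, le_bot_iff, zpowers_eq_bot] at h1
    exact Subtype.ext h1
  have hZT : center L ≤ (T : Subgroup L) := by
    have h2 := hZ2.to_sup_of_normal_left' T.isPGroup' (by
      intro t _; rw [normalizer_eq_top_iff.2 inferInstance]; exact mem_top t)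
    exact (T.3 h2 le_sup_right) ▸ le_sup_left
  -- an element of the centre which is not a square of one
  obtain ⟨z, hzc, hzsq⟩ : ∃ z ∈ center L, ∀ y ∈ center L, y * y ≠ z := by
    by_contra hall
    push Not at hall
    have hs : Function.Surjective (fun y : center L => y * y) := fun w => by
      obtain ⟨y, hy, e⟩ := hall w w.2
      exact ⟨⟨y, hy⟩, Subtype.ext e⟩
    have hi := Finite.injective_iff_surjective.2 hs
    refine hne (eq_bot_iff.2 fun w hw => ?_)
    obtain ⟨j, hj⟩ := hZ2 ⟨w, hw⟩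
    have key : ∀ j : ℕ, ∀ v : center L, v ^ 2 ^ j = 1 → v = 1 := by
      intro j
      induction j with
      | zero => intro v hv; simpa using hv
      | succ j ih =>
        intro v hv
        have e : v * v = 1 := ih _ (by rw [← pow_two, ← pow_mul, ← pow_succ']; exact hv)
        exact hi (show v * v = 1 * 1 by rw [e, one_mul])
    exact mem_bot.2 (congrArg Subtype.val (key j _ hj))
  set π : L →* L ⧸ center L := QuotientGroup.mk' (center L) with hπ
  have hπs : Function.Surjective π := QuotientGroup.mk'_surjective _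
  have hker : ∀ x, π x = 1 ↔ x ∈ center L := fun x => QuotientGroup.eq_one_iff x
  obtain ⟨V, h⟩ := hmodel (T.mapSurjective hπs)
  have hTm : ∀ x, π x ∈ ((T.mapSurjective hπs : Sylow 2 (L ⧸ center L)) : Subgroup (L ⧸ center L)) ↔
      x ∈ (T : Subgroup L) := by
    intro x
    rw [Sylow.coe_mapSurjective]
    refine ⟨?_, fun hx => mem_map_of_mem _ hx⟩
    rintro ⟨t, ht, e⟩
    have : t⁻¹ * x ∈ center L := (hker _).1 (by rw [map_mul, map_inv, e, inv_mul_cancel])
    simpa using mul_mem ht (hZT this)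
  -- `W`, the preimage of `V`
  set W : Subgroup L := (T : Subgroup L) ⊓ V.comap π with hW
  have hWmem : ∀ x, x ∈ W ↔ π x ∈ V := fun x =>
    ⟨fun hx => hx.2, fun hx => ⟨(hTm x).1 (h.le hx), hx⟩⟩
  have hWBZ : ∀ w ∈ W, ∃ b ∈ B, ∃ c ∈ center L, w = b * c := by
    intro w hw
    have h1 : w * w ∈ center L := (hker _).1 (by rw [map_mul]; exact h.sq ((hWmem w).1 hw))
    have h2 := hroot w hw.1 h1
    haveI : (center L).Normal := inferInstance
    obtain ⟨b, hb, c, hc, e⟩ := mem_sup_of_normal_right.1 h2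
    exact ⟨b, hb, c, hc, e.symm⟩
  have hWT : ∀ w ∈ W, ∀ t ∈ (T : Subgroup L), t * w = w * t := by
    intro w hw t ht
    obtain ⟨b, hb, c, hc, rfl⟩ := hWBZ w hw
    have e1 : b * t = t * b := mem_centralizer_iff.1 (hTB ht) b hb
    rw [← mul_assoc, ← e1, mul_assoc, mem_center_iff.1 hc t, ← mul_assoc]
  have hN : ∀ {n : L}, π n ∈ normalizer
      (((T.mapSurjective hπs : Sylow 2 (L ⧸ center L)) : Subgroup (L ⧸ center L)) : Set (L ⧸ center L)) →
      ∀ x ∈ W, n * x * n⁻¹ ∈ W := fun {n} hn x hx => (hWmem _).2 (by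
    rw [map_mul, map_mul, map_inv]; exact h.conj_V hn ((hWmem x).1 hx))
  set N : Subgroup L := (normalizer (((T.mapSurjective hπs : Sylow 2 (L ⧸ center L)) :
    Subgroup (L ⧸ center L)) : Set (L ⧸ center L))).comap π with hNdef
  have hWN : W ≤ N := fun w hw => le_normalizer ((hTm w).2 hw.1)
  haveI hWnorm : (W.subgroupOf N).Normal := ⟨fun x hx n => hN n.2 _ hx⟩
  -- the squares of `W` avoid `z`
  let sq : Subgroup ↥(W.subgroupOf N) :=
    { carrier := {x | ∃ c ∈ center L, ((x : N) : L) = c * c}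
      one_mem' := ⟨1, one_mem _, by simp⟩
      mul_mem' := by
        rintro x y ⟨c, hc, hx⟩ ⟨d, hd, hy⟩
        refine ⟨c * d, mul_mem hc hd, ?_⟩
        rw [show ((x * y : ↥(W.subgroupOf N)) : N) = (x : N) * y from rfl, Subgroup.coe_mul, hx, hy]
        have e := mem_center_iff.1 hd c
        calc c * c * (d * d) = c * (c * d) * d := by group
          _ = c * (d * c) * d := by rw [e]
          _ = c * d * (c * d) := by group
      inv_mem' := by
        rintro x ⟨c, hc, hx⟩
        refine ⟨c⁻¹, inv_mem hc, ?_⟩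
        rw [show ((x⁻¹ : ↥(W.subgroupOf N)) : N) = (x : N)⁻¹ from rfl, Subgroup.coe_inv, hx,
          mul_inv_rev] }
  have hzW : z ∈ W := (hWmem z).2 (by rw [(hker z).2 hzc]; exact one_mem _)
  obtain ⟨χ, -, hχz⟩ := exists_char sq (fun x => by
      obtain ⟨b, hb, c, hc, e⟩ := hWBZ _ x.2
      replace e : ((x : N) : L) = b * c := e
      refine ⟨c, hc, ?_⟩
      show ((x : N) : L) * ((x : N) : L) = c * c
      have hbb : b * b = 1 := by rw [← pow_two]; exact hB.2 b hb
      rw [e]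
      calc b * c * (b * c) = b * (c * b) * c := by group
        _ = b * (b * c) * c := by rw [mem_center_iff.1 hc b]
        _ = b * b * (c * c) := by group
        _ = c * c := by rw [hbb, one_mul])
    (z := (⟨⟨z, hWN hzW⟩, hzW⟩ : ↥(W.subgroupOf N))) (fun ⟨c, hc, e⟩ => hzsq c hc e.symm)
  -- averaging over `N`
  let f : N →* MulAut ↥(W.subgroupOf N) := MulAut.conjNormal
  have hf : ∀ (n : N) (x : ↥(W.subgroupOf N)),
      (((f n) x : N) : L) = n * ((x : N) : L) * (n : L)⁻¹ := fun n x => by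
    simp [f, MulAut.conjNormal_apply]
  have hTN : (T : Subgroup L) ≤ N := fun t ht => le_normalizer ((hTm t).2 ht)
  have hodd : Odd (Nat.card f.range) := by
    rw [Nat.odd_iff, ← Nat.not_even_iff, even_iff_two_dvd]
    intro hd
    have hle : (T : Subgroup L).subgroupOf N ≤ f.ker := fun t ht => MulEquiv.ext fun x =>
      Subtype.ext (Subtype.ext (by
        rw [hf, hWT ((x : N) : L) x.2 (t : L) ht, mul_inv_cancel_right]; rfl))
    have h1 : f.ker.index ∣ ((T : Subgroup L).subgroupOf N).index := index_dvd_of_le hle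
    rw [Subgroup.index_ker] at h1
    exact T.not_dvd_index ((hd.trans h1).trans (relIndex_dvd_index_of_le hTN))
  haveI := Fintype.ofFinite f.range
  let χ' : ↥(W.subgroupOf N) →* Multiplicative (ZMod 2) :=
    ∏ a : f.range, χ.comp (a : MulAut ↥(W.subgroupOf N)).toMonoidHom
  have hχ'apply : ∀ x, χ' x = ∏ a : f.range, χ ((a : MulAut ↥(W.subgroupOf N)) x) := fun x => by
    simp [χ']
  have hχ'inv : ∀ (n : N) x, χ' (f n x) = χ' x := fun n x => by
    rw [hχ'apply, hχ'apply]
    exact Fintype.prod_equiv (Equiv.mulRight (⟨f n, n, rfl⟩ : f.range)) _ _ fun a => rfl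
  have hzfix : ∀ a : f.range, (a : MulAut ↥(W.subgroupOf N)) ⟨⟨z, hWN hzW⟩, hzW⟩ =
      ⟨⟨z, hWN hzW⟩, hzW⟩ := by
    rintro ⟨_, n, rfl⟩
    refine Subtype.ext (Subtype.ext ?_)
    rw [hf]
    rw [mem_center_iff.1 hzc n, mul_inv_cancel_right]
  have hχ'z : χ' ⟨⟨z, hWN hzW⟩, hzW⟩ ≠ 1 := by
    rw [hχ'apply]
    simp only [hzfix, Finset.prod_const, Finset.card_univ, ← Nat.card_eq_fintype_card]
    obtain ⟨r, hr⟩ := hodd
    rw [hr, pow_succ, pow_mul, pow_two, ← map_mul, char_sq, one_pow, one_mul]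
    exact hχz
  -- the value of `χ'` at squares
  let ev : L → Multiplicative (ZMod 2) := fun x =>
    if hx : x ∈ W then χ' ⟨⟨x, hWN hx⟩, hx⟩ else 1
  have hev_mul : ∀ x ∈ W, ∀ y ∈ W, ev (x * y) = ev x * ev y := fun x hx y hy => by
    simp only [ev, dif_pos hx, dif_pos hy, dif_pos (mul_mem hx hy)]
    rw [← map_mul]
    rfl
  have hev_conj : ∀ n ∈ N, ∀ x ∈ W, ev (n * x * n⁻¹) = ev x := fun n hn x hx => by
    simp only [ev, dif_pos hx, dif_pos (hN hn x hx)]
    rw [← hχ'inv ⟨n, hn⟩ ⟨⟨x, hWN hx⟩, hx⟩]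
    exact congrArg χ' (Subtype.ext (Subtype.ext (hf ⟨n, hn⟩ ⟨⟨x, hWN hx⟩, hx⟩).symm))
  have hev_z : ev z ≠ 1 := by simp only [ev, dif_pos hzW]; exact hχ'z
  have hev_one : ev 1 = 1 := by
    simp only [ev, dif_pos W.one_mem]; exact map_one χ'
  have hev_sqW : ∀ w ∈ W, ev (w * w) = 1 := fun w hw => by
    rw [hev_mul w hw w hw]; exact zmod_two_mul_self _
  have hsqW : ∀ t ∈ (T : Subgroup L), t * t ∈ W := fun t ht => (hWmem _).2 (by
    rw [map_mul]; exact h.sq_mem _ ((hTm t).2 ht))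
  have hcW : ∀ s ∈ (T : Subgroup L), ∀ t ∈ (T : Subgroup L), s * t * s⁻¹ * t⁻¹ ∈ W :=
    fun s hs t ht => (hWmem _).2 (by
      simp only [map_mul, map_inv]; exact h.comm_mem ((hTm s).2 hs) ((hTm t).2 ht))
  have hbil : ∀ s ∈ (T : Subgroup L), ∀ t ∈ (T : Subgroup L), ∀ r ∈ (T : Subgroup L),
      ev (s * (t * r) * s⁻¹ * (t * r)⁻¹) =
        ev (s * t * s⁻¹ * t⁻¹) * ev (s * r * s⁻¹ * r⁻¹) := fun s hs t ht r hr => by
    rw [← hev_mul _ (hcW s hs t ht) _ (hcW s hs r hr)]
    congr 1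
    have e := hWT _ (hcW s hs r hr) t ht
    calc s * (t * r) * s⁻¹ * (t * r)⁻¹
        = s * t * s⁻¹ * t⁻¹ * (t * (s * r * s⁻¹ * r⁻¹)) * t⁻¹ := by group
      _ = s * t * s⁻¹ * t⁻¹ * (s * r * s⁻¹ * r⁻¹) := by rw [e]; group
  have hquad : ∀ s ∈ (T : Subgroup L), ∀ t ∈ (T : Subgroup L),
      ev (s * t * (s * t)) = ev (t * s * t⁻¹ * s⁻¹) * (ev (s * s) * ev (t * t)) := fun s hs t ht => by
    rw [← hev_mul _ (hsqW s hs) _ (hsqW t ht),
      ← hev_mul _ (hcW t ht s hs) _ (mul_mem (hsqW s hs) (hsqW t ht))]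
    congr 1
    have e := hWT _ (hcW t ht s hs) s hs
    calc s * t * (s * t) = s * (t * s * t⁻¹ * s⁻¹) * s * t * t := by group
      _ = t * s * t⁻¹ * s⁻¹ * (s * s * (t * t)) := by rw [e]; group
  have hε : ∀ t ∈ (T : Subgroup L), ev (t * t) = 1 := by
    intro t ht
    by_cases htW : t ∈ W
    · exact hev_sqW t htW
    have htV : π t ∉ V := fun e => htW ((hWmem t).2 e)
    obtain ⟨D, hVD, hDT, hcard, htD, hDconj⟩ := h.line (π t) ((hTm t).2 ht) htV
    have hconst : ∀ d, π d ∈ D → d ∈ (T : Subgroup L) ∧ (d ∉ W → ev (d * d) = ev (t * t)) := by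
      intro d hd
      have hdT := (hTm d).1 (hDT hd)
      refine ⟨hdT, fun hdW => ?_⟩
      obtain ⟨n', hn', hv⟩ := hDconj (π d) hd fun e => hdW ((hWmem d).2 e)
      obtain ⟨n, rfl⟩ := hπs n'
      set w := (n * t * n⁻¹)⁻¹ * d with hwdef
      have hw : w ∈ W := (hWmem _).2 (by simpa [hwdef] using hv)
      have hnt : n * t * n⁻¹ ∈ (T : Subgroup L) := (hTm _).1 (by
        rw [map_mul, map_mul, map_inv]; exact h.conj_T hn' ((hTm t).2 ht))
      have e := hWT w hw _ hnt
      have : d * d = n * (t * t) * n⁻¹ * (w * w) := by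
        have hd' : d = n * t * n⁻¹ * w := by rw [hwdef]; group
        rw [hd']
        calc n * t * n⁻¹ * w * (n * t * n⁻¹ * w)
            = n * t * n⁻¹ * (w * (n * t * n⁻¹)) * w := by group
          _ = n * (t * t) * n⁻¹ * (w * w) := by rw [← e]; group
      have hm : n ∈ N := hn'
      rw [this, hev_mul _ (hN hm _ (hsqW t ht)) _ (mul_mem hw hw), hev_conj n hm _ (hsqW t ht),
        hev_sqW w hw, mul_one]
    by_contra hne1
    -- three independent elements of `D` modulo `V`
    obtain ⟨y', hy'D, hy'⟩ : ∃ y ∈ D, y ∉ V ∧ (π t)⁻¹ * y ∉ V := by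
      by_contra hall
      push Not at hall
      have hsub : (D : Set (L ⧸ center L)) ⊆ (V : Set _) ∪ (fun v => π t * v) '' (V : Set _) := fun y hy => by
        by_cases hyV : y ∈ V
        · exact Or.inl hyV
        · exact Or.inr ⟨_, hall y hy hyV, by group⟩
      have h1 := (Set.ncard_le_ncard hsub).trans (Set.ncard_union_le _ _)
      have h2 := Set.ncard_image_le (f := fun v => π t * v) (Set.toFinite (V : Set (L ⧸ center L)))
      rw [← Nat.card_coe_set_eq] at h1 h2
      simp only [← Nat.card_coe_set_eq] at h1 h2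
      simp only [SetLike.coe_sort_coe] at h1 h2
      have := Nat.card_pos (α := V)
      omega
    obtain ⟨r', hr'D, hr'⟩ : ∃ r ∈ D,
        r ∉ V ∧ (π t)⁻¹ * r ∉ V ∧ y'⁻¹ * r ∉ V ∧ (π t * y')⁻¹ * r ∉ V := by
      by_contra hall
      push Not at hall
      have hsub : (D : Set (L ⧸ center L)) ⊆ (V : Set _) ∪ (fun v => π t * v) '' (V : Set _) ∪
          ((fun v => y' * v) '' (V : Set _) ∪ (fun v => π t * y' * v) '' (V : Set _)) := fun y hy => by
        by_cases h1 : y ∈ V
        · exact Or.inl (Or.inl h1)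
        by_cases h2 : (π t)⁻¹ * y ∈ V
        · exact Or.inl (Or.inr ⟨_, h2, by group⟩)
        by_cases h3 : y'⁻¹ * y ∈ V
        · exact Or.inr (Or.inl ⟨_, h3, by group⟩)
        · exact Or.inr (Or.inr ⟨_, hall y hy h1 h2 h3, by group⟩)
      have h1 := ((Set.ncard_le_ncard hsub).trans (Set.ncard_union_le _ _)).trans
        (add_le_add (Set.ncard_union_le _ _) (Set.ncard_union_le _ _))
      have hf : ∀ g : L ⧸ center L,
          ((fun v => g * v) '' (V : Set (L ⧸ center L))).ncard ≤ Nat.card V := fun g =>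
        (Set.ncard_image_le (Set.toFinite _)).trans_eq (Nat.card_coe_set_eq _).symm
      have ha := hf (π t)
      have hb := hf y'
      have hc := hf (π t * y')
      have hd : (D : Set (L ⧸ center L)).ncard = Nat.card D := (Nat.card_coe_set_eq _).symm
      have hv : (V : Set (L ⧸ center L)).ncard = Nat.card V := (Nat.card_coe_set_eq _).symm
      have := Nat.card_pos (α := V)
      omega
    obtain ⟨y, rfl⟩ := hπs y'
    obtain ⟨r, rfl⟩ := hπs r'
    obtain ⟨hy1, hy2⟩ := hy'
    obtain ⟨hr1, hr2, hr3, hr4⟩ := hr'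
    have hyT := (hconst y hy'D).1
    have hrT := (hconst r hr'D).1
    have hinvV : ∀ {a b : L}, π a ∈ D → π b ∈ D → (π a)⁻¹ * π b ∉ V → a * b ∉ W := by
      intro a b ha hb hab hm
      refine hab ?_
      have e : (π a)⁻¹ * π b = ((π a) * π a)⁻¹ * π (a * b) := by rw [map_mul]; group
      rw [e]
      exact mul_mem (inv_mem (h.sq_mem _ (hDT ha))) ((hWmem _).1 hm)
    have hE : ∀ d, π d ∈ D → d ∉ W → ev (d * d) = ev (t * t) := fun d hd hdW => (hconst d hd).2 hdW
    have ey := hE y hy'D fun e => hy1 ((hWmem y).1 e)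
    have er := hE r hr'D fun e => hr1 ((hWmem r).1 e)
    have hyr : π (y * r) ∈ D := by rw [map_mul]; exact mul_mem hy'D hr'D
    have eyr := hE (y * r) hyr (hinvV hy'D hr'D hr3)
    have ety := hE (t * y) (by rw [map_mul]; exact mul_mem htD hy'D) (hinvV htD hy'D hy2)
    have etr := hE (t * r) (by rw [map_mul]; exact mul_mem htD hr'D) (hinvV htD hr'D hr2)
    have etyr := hE (t * (y * r)) (by rw [map_mul]; exact mul_mem htD hyr) (hinvV htD hyr (by
      rw [map_mul]
      intro hm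
      refine hr4 ?_
      have hc := h.comm_mem (inv_mem (hDT htD)) (inv_mem (hDT hy'D))
      have e : (π t * π y)⁻¹ * π r =
          ((π t)⁻¹ * (π y)⁻¹ * (π t)⁻¹⁻¹ * (π y)⁻¹⁻¹)⁻¹ * ((π t)⁻¹ * ((π y * π y)⁻¹ * (π y * π r))) := by
        group
      rw [e]
      refine mul_mem (inv_mem hc) ?_
      have hcen := h.comm_V (inv_mem (h.sq_mem _ (hDT hy'D))) (inv_mem (hDT htD))
      rw [← mul_assoc, ← hcen, mul_assoc]
      exact mul_mem (inv_mem (h.sq_mem _ (hDT hy'D))) hm))
    rw [hquad t ht y hyT, ey] at ety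
    rw [hquad t ht r hrT, er] at etr
    rw [hquad t ht _ (mul_mem hyT hrT), eyr] at etyr
    have hb1 := hbil y hyT r hrT t ht
    have hb2 : ev ((y * r) * t * (y * r)⁻¹ * t⁻¹) =
        ev (y * t * y⁻¹ * t⁻¹) * ev (r * t * r⁻¹ * t⁻¹) := by
      rw [← hev_mul _ (hcW y hyT t ht) _ (hcW r hrT t ht)]
      congr 1
      have e := hWT _ (hcW r hrT t ht) y hyT
      calc y * r * t * (y * r)⁻¹ * t⁻¹
          = y * (r * t * r⁻¹ * t⁻¹) * y⁻¹ * (y * t * y⁻¹ * t⁻¹) := by group
        _ = r * t * r⁻¹ * t⁻¹ * (y * t * y⁻¹ * t⁻¹) := by rw [e]; group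
        _ = y * t * y⁻¹ * t⁻¹ * (r * t * r⁻¹ * t⁻¹) :=
          (hWT _ (hcW r hrT t ht) _ (hcW y hyT t ht).1).symm
    rw [hb2] at etyr
    exact zmod_two_contra _ _ _ hne1 ety etr etyr
  -- the kernel of `ev` contains the squares of `T`
  let M : Subgroup ↥(T : Subgroup L) :=
    { carrier := {x | (x : L) ∈ W ∧ ev x = 1}
      one_mem' := ⟨one_mem _, hev_one⟩
      mul_mem' := fun {x y} hx hy => ⟨mul_mem hx.1 hy.1, by
        show ev ((x : L) * y) = 1
        rw [hev_mul _ hx.1 _ hy.1, hx.2, hy.2, one_mul]⟩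
      inv_mem' := fun {x} hx => ⟨inv_mem hx.1, by
        have e := hev_mul _ hx.1 _ (inv_mem hx.1)
        rw [mul_inv_cancel, hev_one, hx.2, one_mul] at e
        exact e.symm⟩ }
  obtain ⟨ψ, -, hψz⟩ := exists_char M (fun x => ⟨hsqW x x.2, hε x x.2⟩) (z := ⟨z, hZT hzc⟩)
    (fun e => hev_z e.2)
  -- transfer
  let τ := MonoidHom.transfer ψ
  have hτ1 : τ z = 1 := by
    have hle : commutator L ≤ τ.ker := Abelianization.commutator_subset_ker τ
    exact hle ((hL.1.commutator_eq_top.symm ▸ mem_top z : z ∈ commutator L))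
  have key : ∀ (k : ℕ) (g₀ : L), g₀⁻¹ * z ^ k * g₀ ∈ (T : Subgroup L) → g₀⁻¹ * z ^ k * g₀ = z ^ k :=
    fun k g₀ _ => by rw [mul_assoc, ← mem_center_iff.1 (pow_mem hzc k) g₀, inv_mul_cancel_left]
  have hτ2 := MonoidHom.transfer_eq_pow ψ z key
  obtain ⟨r, hr⟩ : Odd (T : Subgroup L).index := by
    rw [Nat.odd_iff]; have := T.not_dvd_index; omega
  refine hψz ?_
  have e : (⟨z ^ (T : Subgroup L).index, MonoidHom.transfer_eq_pow_aux z key⟩ : ↥(T : Subgroup L)) =
      (⟨z, hZT hzc⟩ : ↥(T : Subgroup L)) ^ (T : Subgroup L).index := Subtype.ext (by simp)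
  rw [show τ = MonoidHom.transfer ψ from rfl, hτ2, e, map_pow, hr, pow_succ, pow_mul, pow_two,
    ← map_mul, char_sq, one_pow, one_mul] at hτ1
  exact hτ1

end Cfsg.Agent.H50.WA
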