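import Cfsg.Agent.H50.WA.Model

/-!
# `NData` from a model
-/

set_option autoImplicit false
set_option linter.unusedSectionVars false
set_option linter.style.haveILetI false

namespace Cfsg.Agent.H50.WA

open Subgroup

variable {K : Type*} [Group K] [Finite K] {T : Sylow 2 K} {V : Subgroup K}

namespace Model

variable (h : Model T V)

include h

theorem isSolvable_normalizer : Group.IsSolvable ↥(normalizer ((T : Subgroup K) : Set K)) := by
  haveI : Fact (Nat.Prime 2) := ⟨Nat.prime_two⟩
  set N := normalizer ((T : Subgroup K) : Set K) with hN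
  obtain ⟨y, hy, hgen⟩ := h.cyclicQuot
  set T' := (T : Subgroup K).subgroupOf N with hT'
  haveI : T'.Normal := normal_subgroupOf_iff_le_normalizer le_normalizer |>.2 le_rfl
  haveI : Group.IsSolvable ↥T' := by
    have hp : IsPGroup 2 ↥T' := T.isPGroup'.comap_subtype
    haveI := hp.isNilpotent
    infer_instance
  have hq : ∀ a : N ⧸ T', ∃ k : ℕ, a = (QuotientGroup.mk (⟨y, hy⟩ : N) : N ⧸ T') ^ k := by
    intro a
    obtain ⟨⟨n, hn⟩, rfl⟩ := QuotientGroup.mk_surjective a
    obtain ⟨k, hk⟩ := hgen n hn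
    refine ⟨k, ?_⟩
    rw [← QuotientGroup.mk_pow, eq_comm, QuotientGroup.eq]
    exact mem_subgroupOf.2 (by simpa using hk)
  haveI : Group.IsSolvable (N ⧸ T') := Group.isSolvable_of_comm fun a b => by
    obtain ⟨i, rfl⟩ := hq a
    obtain ⟨j, rfl⟩ := hq b
    rw [← pow_add, ← pow_add, add_comm]
  exact Group.isSolvable_of_ker_le_range T'.subtype (QuotientGroup.mk' T')
    (by rw [QuotientGroup.ker_mk', range_subtype])

theorem soluble {x : K} (hx : orderOf x = 2) :
    Group.IsSolvable ↥(centralizer ({x} : Set K)) := by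
  haveI : Fact (Nat.Prime 2) := ⟨Nat.prime_two⟩
  have hp : IsPGroup 2 ↥(zpowers x) := IsPGroup.of_card (n := 1) (by rw [Nat.card_zpowers, hx, pow_one])
  obtain ⟨P, hP⟩ := hp.exists_le_sylow
  obtain ⟨g, rfl⟩ := MulAction.exists_smul_eq K T P
  obtain ⟨v, hv, rfl⟩ := hP (mem_zpowers x)
  have e : orderOf v = 2 := by
    rw [← hx]; exact (orderOf_injective _ (MulAut.conj g).injective v).symm
  have hvV : v ∈ V := (h.mem_iff v).2 ⟨hv, by rw [← pow_two, ← e, pow_orderOf_eq_one]⟩
  have hv1 : v ≠ 1 := fun e1 => by rw [e1, orderOf_one] at e; omega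
  haveI := h.isSolvable_normalizer
  haveI : Group.IsSolvable ↥(centralizer ({v} : Set K)) :=
    Group.isSolvable_of_isSolvable_injective (f := inclusion (h.cent_le v hvV hv1))
      (inclusion_injective _)
  have hle : centralizer ({(MulAut.conj g).toMonoidHom v} : Set K) ≤
      (centralizer ({v} : Set K)).map (MulAut.conj g).toMonoidHom := by
    intro c hc
    refine ⟨(MulAut.conj g).symm c, mem_centralizer_singleton_iff.2 ?_,
      (MulAut.conj g).apply_symm_apply c⟩
    apply (MulAut.conj g).injective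
    rw [map_mul, map_mul, (MulAut.conj g).apply_symm_apply]
    exact mem_centralizer_singleton_iff.1 hc
  haveI : Group.IsSolvable ↥((centralizer ({v} : Set K)).map (MulAut.conj g).toMonoidHom) :=
    Group.isSolvable_of_surjective (MonoidHom.subgroupMap_surjective _ _)
  exact Group.isSolvable_of_isSolvable_injective (f := inclusion hle) (inclusion_injective _)

theorem irred_sub (hI : H6.StrongClosed.Irred K) (D : Subgroup K) (hVD : V ≤ D)
    (hDT : D ≤ (T : Subgroup K))
    (hn : normalizer ((T : Subgroup K) : Set K) ≤ normalizer (D : Set K)) :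
    D = V ∨ D = (T : Subgroup K) :=
  (hI T D hDT (fun n hn' w hw => (mem_normalizer_iff.1 (hn hn') w).1 hw)
    (fun x hx hx2 => hVD ((h.mem_iff x).2 ⟨hx, hx2⟩))).symm.imp_left
    fun hsq => le_antisymm (fun w hw => (h.mem_iff w).2 ⟨hDT hw, hsq w hw⟩) hVD

theorem normal_sub (D : Subgroup K) (hDT : D ≤ (T : Subgroup K))
    (hn : (T : Subgroup K) ≤ normalizer (D : Set K)) : D ≤ V ∨ V ≤ D := by
  by_cases hDV : D ≤ V
  · exact Or.inl hDV
  obtain ⟨t, ht, htV⟩ := SetLike.not_le_iff_exists.1 hDV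
  refine Or.inr fun v hv => ?_
  obtain ⟨s, hs, i, rfl⟩ := h.comm_sq t (hDT ht) htV v hv
  refine mul_mem (pow_mem (mul_mem ht ht) i) ?_
  rw [show t * s * t⁻¹ * s⁻¹ = t * (s * t⁻¹ * s⁻¹) by group]
  exact mul_mem ht ((mem_normalizer_iff.1 (hn hs) _).1 (inv_mem ht))

/-- The data used about a group of non-abelian type in which the centraliser of an involution of
`V` has no non-trivial element of odd order. -/
theorem nData [IsSimpleGroup K] (hna : ¬ IsMulCommutative K) (hS : H76.PostBender.SylTrans 2 K)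
    (hI : H6.StrongClosed.Irred K)
    (hrig : ∀ v ∈ V, v ≠ 1 → ∀ y : K, Commute y v → Odd (orderOf y) → y = 1) : H77.WA.NData (T : Subgroup K) V := by
  have hZ : center K = ⊥ :=
    (IsSimpleGroup.eq_bot_or_eq_top_of_normal (center K) inferInstance).resolve_right
      fun e => hna ⟨⟨fun a b => ((mem_center_iff.1 (e ▸ mem_top a : a ∈ center K)) b).symm⟩⟩
  refine ⟨h.mem_iff, h.four, h.central, h.commutator_eq, h.sq_mem, fun v hv => h.sq_onto hv,
    h.hasSinger hS, h.irred_sub hI, h.normal_sub, fun x hx hx1 => h.oddTrivialAt hS hZ hx hx1,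
    fun x hx => h.soluble hx, fun φ _ hV hT => h.inner hS hV hT, ?_,
    fun _ _ _ v hv hv1 y hy hodd hy1 _ => absurd (hrig v hv hv1 y hy hodd) hy1, ?_⟩
  · intro P H _ hHV hne hV hT
    refine ⟨⟨fun φ ψ => Subtype.ext ?_⟩⟩
    obtain ⟨a, ha, hea⟩ := h.inner hS (hV φ φ.2) (fun t ht => hHV (hT φ φ.2 t ht))
    obtain ⟨b, hb, heb⟩ := h.inner hS (hV ψ ψ.2) (fun t ht => hHV (hT ψ ψ.2 t ht))
    have hab : a * b = b * a := h.thin H hHV hne a ha b hb
      (fun s hs => by simpa [hea] using hT φ φ.2 s hs)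
      (fun s hs => by simpa [heb] using hT ψ ψ.2 s hs)
    show (φ : MulAut K) * ψ = ψ * φ
    rw [hea, heb, ← map_mul, ← map_mul, hab]
  · rcases h.alt with ⟨y, hy, hodd, hV, hT⟩ | ⟨hk, -⟩
    · refine Or.inl ⟨y, hy, hodd, fun v hv => (hV v hv).symm.symm, le_antisymm ?_ ?_⟩
      · refine sup_le (commutator_le.2 fun t ht n hn => ?_) h.le
        have hnN : n ∈ normalizer ((T : Subgroup K) : Set K) := zpowers_le.2 hy hn
        rw [commutatorElement_def, show t * n * t⁻¹ * n⁻¹ = t * (n * t⁻¹ * n⁻¹) by group]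
        exact mul_mem ht (h.conj_T hnN (inv_mem ht))
      · intro t ht
        obtain ⟨s, hs, v, hv, rfl⟩ := hT t ht
        exact mul_mem_sup (commutator_mem_commutator hs (mem_zpowers y)) hv
    · exact Or.inr hk

end Model

end Cfsg.Agent.H50.WA
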