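import Cfsg.Agent.H50.WA.Model
import Cfsg.Agent.Suzuki.Borel
import Cfsg.Agent.Suzuki.Normalizer
import Cfsg.Agent.Suzuki.Laws

/-!
# The model for `Sz(q)`
-/

set_option autoImplicit false
set_option linter.unusedSectionVars false
set_option linter.style.haveILetI false

namespace Cfsg.Agent.H50.WA.Sz

open Subgroup Cfsg.Agent Cfsg.Agent.Suzuki
open scoped Pointwise

variable {F : Type} [Field F] [Fintype F] (m : ℕ) [SzField F m]

/-- The centre of `U`. -/
def centreU : Subgroup (Cfsg.Sz F m) where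
  carrier := Set.range fun b : F => u m 0 b
  one_mem' := ⟨0, u_zero m⟩
  mul_mem' := by
    rintro _ _ ⟨b, rfl⟩ ⟨d, rfl⟩
    exact ⟨b + d, by simp only [u_mul, th_zero, zero_mul, add_zero]⟩
  inv_mem' := by
    rintro _ ⟨b, rfl⟩
    exact ⟨b, by simp only [u_inv, th_zero, zero_mul, add_zero]⟩

theorem mem_centreU {g : Cfsg.Sz F m} : g ∈ centreU m ↔ ∃ b, g = u m 0 b :=
  ⟨fun ⟨b, h⟩ => ⟨b, h.symm⟩, fun ⟨b, h⟩ => ⟨b, h.symm⟩⟩

theorem u_mem_centreU {a b : F} : u m a b ∈ centreU m ↔ a = 0 :=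
  ⟨fun h => by
    obtain ⟨c, hc⟩ := (mem_centreU m).1 h
    exact ((u_inj m).1 hc).1, fun h => (mem_centreU m).2 ⟨b, by rw [h]⟩⟩

/-- `y ↦ y + th y`. -/
theorem half (c : F) : (∃ y, c = y + th m y) ∨ ∃ y, c = 1 + (y + th m y) := by
  classical
  let ψ : F →+ F := AddMonoidHom.mk' (fun y => y + th m y) fun a b => by rw [th_add]; ring
  have hker : Nat.card ψ.ker ≤ 2 := by
    let g : ψ.ker → Bool := fun y => decide ((y : F) = 0)
    refine (Nat.card_le_card_of_injective g fun a b e => Subtype.ext ?_).trans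
      (by rw [Nat.card_eq_fintype_card, Fintype.card_bool])
    have ha : (a : F) = 0 ∨ (a : F) = 1 := th_eq_self m (eq_of_add_eq_zero m a.2).symm
    have hb : (b : F) = 0 ∨ (b : F) = 1 := th_eq_self m (eq_of_add_eq_zero m b.2).symm
    rcases ha with ha | ha <;> rcases hb with hb | hb <;> simp_all [g]
  have h1 : (1 : F) ∉ ψ.range := fun ⟨y, hy⟩ => th_add_self_ne_one m y hy
  let G : Bool × ψ.range → F := fun p => (if p.1 then 1 else 0) + p.2
  have hG : Function.Injective G := by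
    rintro ⟨i, a⟩ ⟨j, b⟩ e
    simp only [G] at e
    cases i <;> cases j <;> simp at e
    · rw [Prod.mk.injEq]; exact ⟨rfl, e⟩
    · exact absurd (show (1 : F) ∈ ψ.range by
        have h' : (1 : F) = (a : F) - b := by linear_combination -e
        rw [h']; exact sub_mem a.2 b.2) h1
    · exact absurd (show (1 : F) ∈ ψ.range by
        have h' : (1 : F) = (b : F) - a := by linear_combination e
        rw [h']; exact sub_mem b.2 a.2) h1
    · rw [Prod.mk.injEq]; exact ⟨rfl, e⟩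
  have hbij : Function.Bijective G := hG.bijective_of_nat_card_le (by
    have h3 := ψ.ker.card_mul_index
    rw [AddSubgroup.index_ker] at h3
    rw [Nat.card_prod, Nat.card_eq_fintype_card (α := Bool), Fintype.card_bool, ← h3]
    exact Nat.mul_le_mul_right _ hker)
  obtain ⟨⟨i, ⟨_, y, rfl⟩⟩, hy⟩ := hbij.2 c
  cases i
  · exact Or.inl ⟨y, by rw [← hy]; simp [G, ψ]⟩
  · exact Or.inr ⟨y, by rw [← hy]; simp [G, ψ]⟩

theorem comm_form (a b x : F) :
    u m a b * u m (a * x) 0 * (u m a b)⁻¹ * (u m (a * x) 0)⁻¹ =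
      u m 0 (th m a * a * (x + th m x)) := by
  rw [← commutatorElement_def, u_commutator, u_inj, th_mul]
  exact ⟨rfl, by ring⟩

theorem eq_of_thin {a a' : F} (ha : a ≠ 0) (ha' : a' ≠ 0) (S : AddSubgroup F) (hS : S ≠ ⊤)
    (h : ∀ y, th m a * a * (y + th m y) ∈ S) (h' : ∀ y, th m a' * a' * (y + th m y) ∈ S) :
    a = a' := by
  set A := th m a * a
  set A' := th m a' * a'
  have hA : A ≠ 0 := mul_ne_zero (fun e => ha (by simpa using e)) ha
  have hA' : A' ≠ 0 := mul_ne_zero (fun e => ha' (by simpa using e)) ha'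
  have hAS : A ∉ S := fun hm => hS (eq_top_iff.2 fun c _ => by
    rcases half m (c / A) with ⟨y, hy⟩ | ⟨y, hy⟩
    · rw [show c = A * (y + th m y) by rw [← hy]; field_simp]; exact h y
    · rw [show c = A + A * (y + th m y) by field_simp at hy ⊢; linear_combination hy]
      exact add_mem hm (h y))
  let J : Set F := Set.range fun y => y + th m y
  have hJ : ∀ c ∈ S, c / A ∈ J := fun c hc => by
    rcases half m (c / A) with ⟨y, hy⟩ | ⟨y, hy⟩
    · exact ⟨y, hy.symm⟩
    · refine absurd ?_ hAS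
      rw [show A = c - A * (y + th m y) by field_simp at hy ⊢; linear_combination -hy]
      exact sub_mem hc (h y)
  set r := A' / A with hr
  have hr0 : r ≠ 0 := div_ne_zero hA' hA
  have hrJ : ∀ j ∈ J, r * j ∈ J := by
    rintro _ ⟨y, rfl⟩
    rw [show r * (y + th m y) = A' * (y + th m y) / A by rw [hr]; ring]
    exact hJ _ (h' y)
  have h1J : (1 : F) ∉ J := fun ⟨y, hy⟩ => th_add_self_ne_one m y hy
  have hadd : ∀ j ∈ J, ∀ k ∈ J, j + k ∈ J := by
    rintro _ ⟨y, rfl⟩ _ ⟨z, rfl⟩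
    exact ⟨y + z, by simp only [th_add]; ring⟩
  have hfin : ∀ s : F, s ≠ 0 → (∀ j ∈ J, s * j ∈ J) → s ∉ J := by
    intro s hs hsJ hmem
    obtain ⟨⟨k, hk⟩, hk'⟩ := (Finite.injective_iff_surjective.1
      (show Function.Injective (fun j : J => (⟨s * j, hsJ j j.2⟩ : J)) from fun a b e =>
        Subtype.ext (mul_left_cancel₀ hs (congrArg Subtype.val e)))) ⟨s, hmem⟩
    have e : s * k = s := congrArg Subtype.val hk'
    exact h1J ((mul_eq_left₀ hs).1 e ▸ hk)
  have hA_eq : A = A' := by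
    by_contra hne
    have hr1 : r + 1 ≠ 0 := fun e => hne (by
      have : A' / A = 1 := by rw [← hr, eq_of_add_eq_zero m e]
      rw [div_eq_one_iff_eq hA] at this; exact this.symm)
    rcases half m r with ⟨y, hy⟩ | ⟨y, hy⟩
    · exact hfin r hr0 hrJ ⟨y, hy.symm⟩
    · refine hfin (r + 1) hr1 (fun j hj => by
        rw [add_mul, one_mul]; exact hadd _ (hrJ j hj) _ hj) ⟨y, ?_⟩
      show y + th m y = r + 1
      linear_combination -hy - two_eq_zero (F := F) m
  exact mul_th_injective m (show a * th m a = a' * th m a' by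
    rw [mul_comm a, mul_comm a']; exact hA_eq)

theorem model : Model (sylowU (F := F) m) (centreU m) := by
  haveI : Fact (Nat.Prime 2) := ⟨Nat.prime_two⟩
  have hN := normalizer_U (F := F) m
  have hcard : Nat.card (centreU (F := F) m) = Fintype.card F := by
    rw [← Nat.card_eq_fintype_card]
    exact (Nat.card_congr (Equiv.ofBijective (fun b : F => (⟨u m 0 b, b, rfl⟩ : centreU m))
      ⟨fun a b e => ((u_inj m).1 (congrArg Subtype.val e)).2, by
        rintro ⟨_, b, rfl⟩; exact ⟨b, rfl⟩⟩)).symm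
  have htv : ∀ a b c d : F, ∀ s : Fˣ, th m (s : F) * a = c →
      (t m s * u m a b * (t m s)⁻¹)⁻¹ * u m c d ∈ centreU m := fun a b c d s hs => by
    rw [t_u, u_inv, u_mul, u_mem_centreU, hs, add_self m c]
  constructor
  · intro x
    rw [coe_sylowU]
    refine ⟨fun hx => ?_, fun ⟨hx, hsq⟩ => ?_⟩
    · obtain ⟨b, rfl⟩ := (mem_centreU m).1 hx
      exact ⟨u_mem_U m _ _, by rw [u_sq, th_zero, zero_mul, u_zero]⟩
    · exact (mem_centreU m).2 (mem_Z_of_sq hx hsq)
  · rw [hcard]; have := eight_le_card (F := F) m; omega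
  · rw [coe_sylowU]
    intro x hx
    obtain ⟨d, rfl⟩ := (mem_centreU m).1 hx
    refine mem_centralizer_iff.2 fun g hg => ?_
    obtain ⟨a, b, rfl⟩ := (mem_U m).1 hg
    rw [u_mul, u_mul, u_inj, th_zero, zero_mul, mul_zero]
    exact ⟨by ring, by ring⟩
  · rw [coe_sylowU]
    intro g hg
    obtain ⟨a, b, rfl⟩ := (mem_U m).1 hg
    exact (mem_centreU m).2 ⟨_, u_sq m a b⟩
  · rw [coe_sylowU]
    obtain ⟨x, hx0, hx1⟩ := exists_ne_zero_one (F := F) m
    refine ⟨u m 1 0, u_mem_U m _ _, u m x 0, u_mem_U m _ _, fun e => ?_⟩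
    rw [u_mul, u_mul, u_inj, th_one, one_mul, zero_add, zero_add, mul_one] at e
    rcases th_eq_self m (by simpa using e.2.symm : th m x = x) with h | h
    · exact hx0 h
    · exact hx1 h
  · rw [coe_sylowU, hN]
    obtain ⟨g, hg⟩ := IsCyclic.exists_generator (α := Fˣ)
    refine ⟨t m g, T_le_B m (t_mem_T m g), fun n hn => ?_⟩
    obtain ⟨a, b, s, rfl⟩ := exists_u_t_of_fix_oInf m hn
    obtain ⟨k, rfl⟩ := mem_powers_iff_mem_zpowers.2 (hg s)
    refine ⟨k, ?_⟩
    rw [← map_pow, ← map_inv, ← mul_assoc,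
      show t m (g ^ k)⁻¹ * u m a b * t m (g ^ k) =
        t m (g ^ k)⁻¹ * u m a b * (t m (g ^ k)⁻¹)⁻¹ by rw [map_inv, inv_inv], t_u]
    exact u_mem_U m _ _
  · rw [coe_sylowU, hN]
    intro v hv w hw hv1 hw1
    obtain ⟨b, rfl⟩ := (mem_centreU m).1 hv
    obtain ⟨c, rfl⟩ := (mem_centreU m).1 hw
    have hb : b ≠ 0 := fun e => hv1 ((u_eq_one m).2 ⟨rfl, e⟩)
    have hc : c ≠ 0 := fun e => hw1 ((u_eq_one m).2 ⟨rfl, e⟩)
    obtain ⟨x, hx⟩ := (sq_mul_th_bijective (F := F) m).2 (c / b)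
    have hx0 : x ≠ 0 := fun e => div_ne_zero hc hb (by
      rw [← hx]; simp [e])
    refine ⟨t m (Units.mk0 x hx0), T_le_B m (t_mem_T m _), ?_⟩
    rw [t_u, u_inj, mul_zero, Units.val_mk0]
    exact ⟨rfl, by
      have hx' : x ^ 2 * th m x = c / b := hx
      rw [hx', div_mul_cancel₀ c hb]⟩
  · rw [coe_sylowU, hN]
    intro v hv hv1 g hg
    obtain ⟨b, rfl⟩ := (mem_centreU m).1 hv
    have hb : b ≠ 0 := fun e => hv1 ((u_eq_one m).2 ⟨rfl, e⟩)
    rw [mem_B]
    rcases ovoid_cases (g • (oInf m : suzukiOvoid F m)) with h | ⟨x, y, h⟩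
    · exact h
    · exfalso
      have e : u m 0 b • g • oInf m = g • (oInf m : suzukiOvoid F m) := by
        rw [← mul_smul, ← mem_centralizer_singleton_iff.1 hg, mul_smul, u_smul_oInf]
      rw [h, u_smul_oPt, oPt_inj] at e
      refine hb ?_
      have e2 := e.2
      simp at e2
      exact e2
  · rw [coe_sylowU]
    intro g hg hgV v hv
    obtain ⟨a, b, rfl⟩ := (mem_U m).1 hg
    obtain ⟨c, rfl⟩ := (mem_centreU m).1 hv
    have ha : a ≠ 0 := fun e => hgV ((u_mem_centreU m).2 e)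
    have hA : th m a * a ≠ 0 := mul_ne_zero (fun e => ha (by simpa using e)) ha
    rcases half m (c / (th m a * a)) with ⟨y, hy⟩ | ⟨y, hy⟩
    · refine ⟨u m (a * y) 0, u_mem_U m _ _, 0, ?_⟩
      rw [pow_zero, one_mul, comm_form, u_inj, ← hy, mul_div_cancel₀ c hA]
      exact ⟨rfl, rfl⟩
    · refine ⟨u m (a * y) 0, u_mem_U m _ _, 1, ?_⟩
      rw [pow_one, comm_form, u_sq, u_mul, u_inj, th_zero, zero_mul]
      refine ⟨by ring, ?_⟩
      have hy' := congrArg (fun z => th m a * a * z) hy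
      simp only [mul_div_cancel₀ c hA] at hy'
      linear_combination hy'
  · rw [coe_sylowU]
    intro H hH hne g hg g' hg' h1 h2
    obtain ⟨a, b, rfl⟩ := (mem_U m).1 hg
    obtain ⟨a', b', rfl⟩ := (mem_U m).1 hg'
    have hcomm : ∀ c d e f : F, (c = 0 ∨ e = 0 ∨ c = e) → u m c d * u m e f = u m e f * u m c d := by
      intro c d e f hce
      rw [u_mul, u_mul, u_inj]
      refine ⟨add_comm _ _, ?_⟩
      rcases hce with h | h | h <;> rw [h] <;> simp [th_zero] <;> ring
    by_cases ha : a = 0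
    · exact hcomm _ _ _ _ (Or.inl ha)
    by_cases ha' : a' = 0
    · exact hcomm _ _ _ _ (Or.inr (Or.inl ha'))
    let S : AddSubgroup F :=
      { carrier := {c | u m 0 c ∈ H}
        zero_mem' := by show u m 0 0 ∈ H; rw [u_zero]; exact one_mem _
        add_mem' := fun {x y} hx hy => by
          show u m 0 (x + y) ∈ H
          rw [show u m 0 (x + y) = u m 0 x * u m 0 y by
            rw [u_mul, th_zero, zero_mul, add_zero, add_zero]]
          exact mul_mem hx hy
        neg_mem' := fun {x} hx => by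
          show u m 0 (-x) ∈ H
          rw [Suzuki.neg_eq m]; exact hx }
    refine hcomm _ _ _ _ (Or.inr (Or.inr (eq_of_thin m ha ha' S (fun e => hne ?_) ?_ ?_)))
    · refine le_antisymm hH fun v hv => ?_
      obtain ⟨c, rfl⟩ := (mem_centreU m).1 hv
      exact (e ▸ AddSubgroup.mem_top c : c ∈ S)
    · intro y
      show u m 0 _ ∈ H
      rw [← comm_form m a b y]; exact h1 _ (u_mem_U m _ _)
    · intro y
      show u m 0 _ ∈ H
      rw [← comm_form m a' b' y]; exact h2 _ (u_mem_U m _ _)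
  · refine Or.inr ⟨fun k e => ?_, ?_⟩
    · rw [hcard, SzField.card_eq (F := F) (m := m)] at e
      obtain ⟨j, -, rfl⟩ := (Nat.dvd_prime_pow Nat.prime_two).1
        (e ▸ dvd_pow_self k two_ne_zero : k ∣ 2 ^ (2 * m + 1))
      rw [← pow_mul] at e
      have := Nat.pow_right_injective le_rfl e
      omega
    · rw [coe_sylowU, hN]
      intro g hg hgV g' hg' hg'V
      obtain ⟨a, b, rfl⟩ := (mem_U m).1 hg
      obtain ⟨c, d, rfl⟩ := (mem_U m).1 hg'
      have ha : a ≠ 0 := fun e => hgV ((u_mem_centreU m).2 e)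
      have hc : c ≠ 0 := fun e => hg'V ((u_mem_centreU m).2 e)
      obtain ⟨x, hx⟩ := (th_bijective (F := F) m).2 (c / a)
      have hx0 : x ≠ 0 := fun e => div_ne_zero hc ha (by rw [← hx, e, th_zero])
      exact ⟨t m (Units.mk0 x hx0), T_le_B m (t_mem_T m _), htv a b c d _ (by
        rw [Units.val_mk0, hx, div_mul_cancel₀ c ha])⟩
  · rw [coe_sylowU, hN]
    intro g hg hgV
    refine ⟨U m, ?_, le_rfl, ?_, hg, ?_⟩
    · intro v hv
      obtain ⟨b, rfl⟩ := (mem_centreU m).1 hv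
      exact u_mem_U m _ _
    · rw [hcard, card_U, Nat.card_eq_fintype_card, pow_two]
      exact Nat.mul_le_mul_right _ (eight_le_card m)
    · intro g' hg' hg'V
      obtain ⟨a, b, rfl⟩ := (mem_U m).1 hg
      obtain ⟨c, d, rfl⟩ := (mem_U m).1 hg'
      have ha : a ≠ 0 := fun e => hgV ((u_mem_centreU m).2 e)
      have hc : c ≠ 0 := fun e => hg'V ((u_mem_centreU m).2 e)
      obtain ⟨x, hx⟩ := (th_bijective (F := F) m).2 (c / a)
      have hx0 : x ≠ 0 := fun e => div_ne_zero hc ha (by rw [← hx, e, th_zero])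
      exact ⟨t m (Units.mk0 x hx0), T_le_B m (t_mem_T m _), htv a b c d _ (by
        rw [Units.val_mk0, hx, div_mul_cancel₀ c ha])⟩

end Cfsg.Agent.H50.WA.Sz
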