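import Cfsg.Agent.H50.WA.Model

/-!
# Moving a model through a surjection with odd central kernel
-/

set_option autoImplicit false
set_option linter.unusedSectionVars false
set_option linter.style.haveILetI false

namespace Cfsg.Agent.H50.WA

open Subgroup
open scoped Pointwise

variable {X K : Type*} [Group X] [Finite X] [Group K] [Finite K]

theorem odd_kernel_coprime {π : X →* K} (hodd : Odd (Nat.card π.ker)) {x : X} (hx : π x = 1)
    {j : ℕ} (hj : x ^ 2 ^ j = 1) : x = 1 :=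
  orderOf_eq_one_iff.1 (Nat.eq_one_of_dvd_coprimes ((Nat.coprime_two_left.2 hodd).pow_left j)
    (orderOf_dvd_of_pow_eq_one hj) (Subgroup.orderOf_dvd_natCard _ (show x ∈ π.ker from hx)))

theorem Model.of_surjective {T : Sylow 2 X} {V : Subgroup X} (h : Model T V) {π : X →* K}
    (hπ : Function.Surjective π) (hc : π.ker ≤ center X) (hodd : Odd (Nat.card π.ker)) :
    Model (T.mapSurjective hπ) (V.map π) := by
  haveI : Fact (Nat.Prime 2) := ⟨Nat.prime_two⟩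
  have hT : ((T.mapSurjective hπ : Sylow 2 K) : Subgroup K) = (T : Subgroup X).map π :=
    Sylow.coe_mapSurjective _ _
  have hinj : ∀ {x : X}, x ∈ (T : Subgroup X) → π x = 1 → x = 1 := fun {x} hx h1 => by
    obtain ⟨j, hj⟩ := T.isPGroup' ⟨x, hx⟩
    exact odd_kernel_coprime hodd h1 (by simpa using congrArg Subtype.val hj)
  have hN : ∀ n : X, π n ∈ normalizer (((T : Subgroup X).map π : Subgroup K) : Set K) ↔
      n ∈ normalizer ((T : Subgroup X) : Set X) := by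
    refine fun n => ⟨fun hn => ?_, fun hn => le_normalizer_map π ⟨n, hn, rfl⟩⟩
    have key : ∀ g : X, π g ∈ normalizer (((T : Subgroup X).map π : Subgroup K) : Set K) →
        ∀ t ∈ (T : Subgroup X), g * t * g⁻¹ ∈ (T : Subgroup X) := by
      intro g hg t ht
      obtain ⟨s, hs, hse⟩ := (mem_normalizer_iff.1 hg (π t)).1 ⟨t, ht, rfl⟩
      have hz : s⁻¹ * (g * t * g⁻¹) ∈ center X :=
        hc (show π _ = 1 by simp only [map_mul, map_inv, hse]; group)
      have hgs : g * t * g⁻¹ = s * (s⁻¹ * (g * t * g⁻¹)) := by group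
      refine mem_of_two_element T ?_ (j := (T.isPGroup' ⟨t, ht⟩).choose) ?_
      · rw [hgs]
        exact mul_mem (le_normalizer hs) (centralizer_le_normalizer _
          (mem_centralizer_iff.2 fun y _ => mem_center_iff.1 hz y))
      · have e : t ^ 2 ^ (T.isPGroup' ⟨t, ht⟩).choose = 1 := by
          simpa using congrArg Subtype.val (T.isPGroup' ⟨t, ht⟩).choose_spec
        rw [conj_pow, e, mul_one, mul_inv_cancel]
    refine mem_normalizer_iff.2 fun t => ⟨key n hn t, fun ht => ?_⟩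
    have := key n⁻¹ (by rw [map_inv]; exact inv_mem hn) _ ht
    rwa [show n⁻¹ * (n * t * n⁻¹) * n⁻¹⁻¹ = t by group] at this
  have hVinj : ∀ {t : X}, t ∈ (T : Subgroup X) → π t ∈ V.map π → t ∈ V := by
    rintro t ht ⟨v, hv, e⟩
    have : v⁻¹ * t = 1 := hinj (mul_mem (inv_mem (h.le hv)) ht) (by rw [map_mul, map_inv, e, inv_mul_cancel])
    rwa [← inv_mul_eq_one.1 this]
  constructor
  · intro x
    rw [hT]
    constructor
    · rintro ⟨v, hv, rfl⟩
      exact ⟨⟨v, h.le hv, rfl⟩, by rw [← map_mul, h.sq hv, map_one]⟩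
    · rintro ⟨⟨t, ht, rfl⟩, hsq⟩
      exact ⟨t, (h.mem_iff t).2 ⟨ht, hinj (mul_mem ht ht) (by rw [map_mul, hsq])⟩, rfl⟩
  · refine h.four.trans_eq (Nat.card_congr (Equiv.ofBijective
      (fun v : V => (⟨π v, v, v.2, rfl⟩ : V.map π)) ⟨fun a b e => Subtype.ext ?_, ?_⟩))
    · have e' : π (a : X) = π b := congrArg Subtype.val e
      exact inv_mul_eq_one.1 (hinj (mul_mem (inv_mem (h.le a.2)) (h.le b.2))
        (by rw [map_mul, map_inv, e', inv_mul_cancel]))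
    · rintro ⟨_, v, hv, rfl⟩
      exact ⟨⟨v, hv⟩, rfl⟩
  · rw [hT]
    rintro _ ⟨v, hv, rfl⟩
    refine mem_centralizer_iff.2 ?_
    rintro _ ⟨t, ht, rfl⟩
    rw [← map_mul, ← map_mul, h.comm_V hv ht]
  · rw [hT]
    rintro _ ⟨t, ht, rfl⟩
    exact ⟨t * t, h.sq_mem t ht, map_mul π t t⟩
  · obtain ⟨s, hs, t, ht, hne⟩ := h.nonab
    rw [hT]
    refine ⟨π s, ⟨s, hs, rfl⟩, π t, ⟨t, ht, rfl⟩, fun e => hne ?_⟩
    refine mul_inv_eq_one.1 (hinj (mul_mem (mul_mem hs ht) (inv_mem (mul_mem ht hs))) ?_)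
    rw [map_mul, map_inv, map_mul, map_mul, e, mul_inv_cancel]
  · obtain ⟨y, hy, hy'⟩ := h.cyclicQuot
    rw [hT]
    refine ⟨π y, (hN y).2 hy, fun n hn => ?_⟩
    obtain ⟨n, rfl⟩ := hπ n
    obtain ⟨k, hk⟩ := hy' n ((hN n).1 hn)
    exact ⟨k, (y ^ k)⁻¹ * n, hk, by rw [map_mul, map_inv, map_pow]⟩
  · rw [hT]
    rintro _ ⟨v, hv, rfl⟩ _ ⟨w, hw, rfl⟩ hv1 hw1
    obtain ⟨n, hn, hnv⟩ := h.trans v hv w hw (fun e => hv1 (by rw [e, map_one]))
      (fun e => hw1 (by rw [e, map_one]))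
    exact ⟨π n, (hN n).2 hn, by rw [← hnv, map_mul, map_mul, map_inv]⟩
  · rw [hT]
    rintro _ ⟨v, hv, rfl⟩ hv1 c hc'
    obtain ⟨g, rfl⟩ := hπ c
    refine (hN g).2 (h.cent_le v hv (fun e => hv1 (by rw [e, map_one]))
      (mem_centralizer_singleton_iff.2 ?_))
    have e : π (g * v * g⁻¹) = π v := by
      rw [map_mul, map_mul, map_inv, mem_centralizer_singleton_iff.1 hc', mul_inv_cancel_right]
    have hk : π (v⁻¹ * (g * v * g⁻¹)) = 1 := by rw [map_mul, map_inv, e, inv_mul_cancel]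
    have h2 : (v⁻¹ * (g * v * g⁻¹)) ^ 2 ^ 1 = 1 := by
      have hz := mem_center_iff.1 (hc hk) v
      have hvv := h.sq hv
      rw [pow_one, pow_two]
      calc v⁻¹ * (g * v * g⁻¹) * (v⁻¹ * (g * v * g⁻¹))
          = v⁻¹ * (g * v * g⁻¹) * v * (v * v)⁻¹ * (g * v * g⁻¹) := by group
        _ = v * (v⁻¹ * (g * v * g⁻¹)) * (g * v * g⁻¹) := by rw [hvv, ← hz]; group
        _ = g * (v * v) * g⁻¹ := by group
        _ = 1 := by rw [hvv]; group
    exact mul_inv_eq_iff_eq_mul.1 (inv_mul_eq_one.1 (odd_kernel_coprime hodd hk h2)).symm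
  · rw [hT]
    rintro _ ⟨t, ht, rfl⟩ htV _ ⟨v, hv, rfl⟩
    obtain ⟨s, hs, i, rfl⟩ := h.comm_sq t ht (fun e => htV ⟨t, e, rfl⟩) v hv
    exact ⟨π s, ⟨s, hs, rfl⟩, i, by simp⟩
  · rw [hT]
    rintro H hH hne _ ⟨t, ht, rfl⟩ _ ⟨t', ht', rfl⟩ h1 h2
    rw [← map_mul, ← map_mul]
    refine congrArg π (h.thin (H.comap π ⊓ V) inf_le_right (fun e => hne (le_antisymm hH ?_))
      t ht t' ht' (fun s hs => ⟨?_, h.comm_mem ht hs⟩) fun s hs => ⟨?_, h.comm_mem ht' hs⟩)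
    · rintro _ ⟨v, hv, rfl⟩
      exact (e.symm ▸ hv : v ∈ H.comap π ⊓ V).1
    · show π _ ∈ H
      simpa using h1 (π s) ⟨s, hs, rfl⟩
    · show π _ ∈ H
      simpa using h2 (π s) ⟨s, hs, rfl⟩
  · rw [hT]
    rcases h.alt with ⟨y, hy, hyo, hyV, hyT⟩ | ⟨hk, htr⟩
    · refine Or.inl ⟨π y, (hN y).2 hy, hyo.of_dvd_nat (orderOf_map_dvd π y), ?_, ?_⟩
      · rintro _ ⟨v, hv, rfl⟩
        exact (hyV v hv).map π
      · rintro _ ⟨t, ht, rfl⟩
        obtain ⟨s, hs, v, hv, rfl⟩ := hyT t ht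
        exact ⟨π s, ⟨s, hs, rfl⟩, π v, ⟨v, hv, rfl⟩, by simp⟩
    · refine Or.inr ⟨fun k e => hk k (Eq.trans ?_ e), ?_⟩
      · refine Nat.card_congr (Equiv.ofBijective
          (fun v : V => (⟨π v, v, v.2, rfl⟩ : V.map π)) ⟨fun a b e => Subtype.ext ?_, ?_⟩)
        · have e' : π (a : X) = π b := congrArg Subtype.val e
          exact inv_mul_eq_one.1 (hinj (mul_mem (inv_mem (h.le a.2)) (h.le b.2))
            (by rw [map_mul, map_inv, e', inv_mul_cancel]))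
        · rintro ⟨_, v, hv, rfl⟩
          exact ⟨⟨v, hv⟩, rfl⟩
      · rintro _ ⟨t, ht, rfl⟩ htV _ ⟨t', ht', rfl⟩ ht'V
        obtain ⟨n, hn, hv⟩ := htr t ht (fun e => htV ⟨t, e, rfl⟩) t' ht' (fun e => ht'V ⟨t', e, rfl⟩)
        exact ⟨π n, (hN n).2 hn, _, hv, by simp⟩
  · rw [hT]
    rintro _ ⟨t, ht, rfl⟩ htV
    obtain ⟨D, hVD, hDT, hcard, htD, hD⟩ := h.line t ht fun e => htV ⟨t, e, rfl⟩
    have hc' : ∀ H : Subgroup X, H ≤ (T : Subgroup X) → Nat.card (H.map π) = Nat.card H := fun H hH =>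
      (Nat.card_congr (Equiv.ofBijective (fun v : H => (⟨π v, v, v.2, rfl⟩ : H.map π))
        ⟨fun a b e => Subtype.ext (by
          have e' : π (a : X) = π b := congrArg Subtype.val e
          exact inv_mul_eq_one.1 (hinj (mul_mem (inv_mem (hH a.2)) (hH b.2))
            (by rw [map_mul, map_inv, e', inv_mul_cancel]))), by
          rintro ⟨_, v, hv, rfl⟩
          exact ⟨⟨v, hv⟩, rfl⟩⟩)).symm
    refine ⟨D.map π, map_mono hVD, map_mono hDT, ?_, ⟨t, htD, rfl⟩, ?_⟩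
    · rw [hc' V h.le, hc' D hDT]; exact hcard
    · rintro _ ⟨d, hd, rfl⟩ hdV
      obtain ⟨n, hn, hv⟩ := hD d hd fun e => hdV ⟨d, e, rfl⟩
      exact ⟨π n, (hN n).2 hn, _, hv, by simp⟩

/-- A model for one Sylow subgroup gives one for each. -/
theorem Model.exists_all {T₀ : Sylow 2 K} {V₀ : Subgroup K} (h : Model T₀ V₀) (T : Sylow 2 K) :
    ∃ V, Model T V := by
  haveI : Fact (Nat.Prime 2) := ⟨Nat.prime_two⟩
  obtain ⟨g, hg⟩ := MulAction.exists_smul_eq K T₀ T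
  have h' := h.of_surjective (π := (MulAut.conj g).toMonoidHom) (MulAut.conj g).surjective
    (fun x hx => by
      rw [show x = 1 from (MulAut.conj g).map_eq_one_iff.1 hx]; exact one_mem _)
    (by
      rw [(MonoidHom.ker_eq_bot_iff _).2 (MulAut.conj g).injective, card_bot]; exact odd_one)
  have e : T₀.mapSurjective (f := (MulAut.conj g).toMonoidHom) (MulAut.conj g).surjective = T := by
    rw [← hg]
    exact Sylow.ext rfl
  exact ⟨_, e ▸ h'⟩

end Cfsg.Agent.H50.WA
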