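import Cfsg.Agent.H50.WA.AFacts
import Cfsg.Agent.H50.WA.NFacts
import Cfsg.Agent.H50.WA.Cover
import Cfsg.Agent.H50.WA.Transfer
import Cfsg.Agent.H50.WA.SzModel
import Cfsg.Agent.H76.WA.UnitaryData

/-!
# The facts about the simple types
-/

set_option autoImplicit false
set_option linter.unusedSectionVars false
set_option linter.style.haveILetI false

namespace Cfsg.Agent.H50.WA

open Subgroup

universe u

theorem sylow_abelian_of_sl_two {K : Type u} [Group K] [Finite K] {F : Type} [Field F] [Fintype F]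
    [CharP F 2] (e : K ≃* Matrix.ProjectiveSpecialLinearGroup (Fin 2) F) :
    H10.Walter.AbSyl K := by
  obtain ⟨e'⟩ := H76.PostBender.nonempty_equiv_sl_two e
  intro T
  have hsq : ∀ a : (T : Subgroup K), a⁻¹ = a := fun a => by
    obtain ⟨j, hj⟩ := T.isPGroup' a
    have h1 : e' (a : K) ^ 2 ^ j = 1 := by
      rw [← map_pow]
      have := congrArg Subtype.val hj
      simp only [coe_pow, coe_one] at this
      rw [this, map_one]
    have h2 := H6.StrongClosed.sl_two_sq h1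
    rw [← map_mul, ← map_one e'] at h2
    exact inv_eq_of_mul_eq_one_right (Subtype.ext (e'.injective h2))
  exact ⟨⟨fun a b => by
    have h := hsq (a * b)
    rwa [mul_inv_rev, hsq a, hsq b, eq_comm] at h⟩⟩

/-- A model of every Sylow 2-subgroup of a Suzuki group. -/
theorem exists_model_sz {K : Type u} [Group K] [Finite K] (h : Cfsg.Lie.IsoSuzuki K) (T : Sylow 2 K) :
    ∃ V, Model T V := by
  haveI : Fact (Nat.Prime 2) := ⟨Nat.prime_two⟩
  obtain ⟨F, _, _, m, hm, hF, ⟨e⟩⟩ := h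
  haveI : Suzuki.SzField F m := ⟨hF, hm⟩
  let φ : Cfsg.Sz F m ≃* K := (Suzuki.lieEquiv m).trans e.symm
  have hker : φ.toMonoidHom.ker = ⊥ := (MonoidHom.ker_eq_bot_iff _).2 φ.injective
  exact (Sz.model (F := F) (m := m) |>.of_surjective (π := φ.toMonoidHom) φ.surjective
    (by rw [hker]; exact bot_le) (by rw [hker, card_bot]; exact odd_one)).exists_all T

/-- In a Suzuki group no non-trivial element of odd order commutes with an involution. -/
theorem eq_one_of_commute_sz {K : Type u} [Group K] [Finite K] (h : Cfsg.Lie.IsoSuzuki K) {v y : K}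
    (hv : v * v = 1) (hv1 : v ≠ 1) (hy : Commute y v) (hodd : Odd (orderOf y)) : y = 1 := by
  haveI : Fact (Nat.Prime 2) := ⟨Nat.prime_two⟩
  obtain ⟨F, _, _, m, hm, hF, ⟨e⟩⟩ := h
  haveI : Suzuki.SzField F m := ⟨hF, hm⟩
  let φ : K ≃* Cfsg.Sz F m := e.trans (Suzuki.lieEquiv m).symm
  have hord : orderOf (φ v) = 2 ^ 1 := by
    rw [pow_one, orderOf_eq_prime_iff, pow_two, ← map_mul, hv, map_one]
    exact ⟨rfl, fun e1 => hv1 (φ.injective (e1.trans (map_one φ).symm))⟩
  have hp : IsPGroup 2 ↥(zpowers (φ v)) := IsPGroup.of_card (n := 1) (by rw [Nat.card_zpowers, hord])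
  obtain ⟨P, hP⟩ := hp.exists_le_sylow
  obtain ⟨g, hg⟩ := Suzuki.exists_conj_U m P
  have hmem := hP (mem_zpowers (φ v))
  rw [hg] at hmem
  obtain ⟨w, hw, hwv⟩ := hmem
  have hwv' : g * w * g⁻¹ = φ v := hwv
  have hw1 : w ≠ 1 := fun e1 => hv1 (φ.injective (by
    rw [← hwv', e1, mul_one, mul_inv_cancel, map_one]))
  have hc : g⁻¹ * φ y * g ∈ centralizer ({w} : Set (Cfsg.Sz F m)) := by
    refine mem_centralizer_singleton_iff.2 ?_
    have h1 : φ y * φ v = φ v * φ y := by rw [← map_mul, ← map_mul, hy.eq]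
    rw [← hwv'] at h1
    calc g⁻¹ * φ y * g * w = g⁻¹ * (φ y * (g * w * g⁻¹)) * g := by group
      _ = g⁻¹ * (g * w * g⁻¹ * φ y) * g := by rw [h1]
      _ = w * (g⁻¹ * φ y * g) := by group
  obtain ⟨j, hj⟩ := Suzuki.isPGroup_U (F := F) m ⟨_, Suzuki.centralizer_U_le m hw hw1 hc⟩
  have hj' : (g⁻¹ * φ y * g) ^ 2 ^ j = 1 := by simpa using congrArg Subtype.val hj
  have hyj : y ^ 2 ^ j = 1 := φ.injective (by
    have h2 : (g⁻¹ * φ y * g⁻¹⁻¹) ^ 2 ^ j = 1 := by rwa [inv_inv]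
    rw [conj_pow, inv_inv, mul_eq_one_iff_eq_inv, mul_eq_left] at h2
    rw [map_pow, map_one, h2])
  exact orderOf_eq_one_iff.1 (Nat.eq_one_of_dvd_coprimes
    ((Nat.coprime_two_left.2 hodd).pow_left j) (orderOf_dvd_of_pow_eq_one hyj) dvd_rfl)

/-- What the type `NType` amounts to. -/
theorem ntype_cases {K : Type u} [Group K] [Finite K] (h : H77.WA.NType K) :
    Cfsg.Lie.IsoSuzuki K ∨
      ∃ (F : Type) (_ : Field F) (_ : Fintype F) (n : ℕ), 2 ≤ n ∧
        Fintype.card F = (2 ^ n) ^ 2 ∧ Nonempty (K ≃* Cfsg.PSU 3 F (2 ^ n)) := by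
  obtain ⟨-, -, hB, hab⟩ := h
  rcases hB with ⟨F, _, _, hc, -, ⟨e⟩⟩ | h | h
  · haveI := hc
    exact absurd (sylow_abelian_of_sl_two e) hab
  · exact Or.inr h
  · exact Or.inl h

theorem typeFacts : H77.WA.TypeFacts.{u} where
  ab K _ _ hK T := aData hK T
  nab K _ _ hK T := by
    obtain ⟨hs, hna, -, -⟩ := id hK
    haveI := hs
    rcases ntype_cases hK with h | ⟨F, _, _, n, hn, hF, ⟨e⟩⟩
    · obtain ⟨V, hV⟩ := exists_model_sz h T
      exact ⟨V, hV.nData hna (H76.PostBender.sylTrans_sz h)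
        (H6.StrongClosed.irred_of_bender (Or.inr (Or.inl h)))
        fun v hv hv1 y hy hodd => eq_one_of_commute_sz h (hV.sq hv) hv1 hy hodd⟩
    · exact H76.WA.nData_unitary hn hF e T
  cover L _ _ hL hO hK T B hBT hB hTB hroot := by
    rcases ntype_cases hK with h | ⟨F, _, _, n, hn, hF, ⟨e⟩⟩
    · exact center_eq_bot hL hO (exists_model_sz h) T B hBT hB hTB hroot
    · exact H76.WA.cover_unitary hL hO hn hF e

end Cfsg.Agent.H50.WA
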