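import Cfsg.Agent.H50.WA.Model
import Cfsg.Agent.H50.Walter.ShapeData
import Cfsg.Agent.H77.AutPGroup
import Cfsg.Agent.PGroups.Basic
import Cfsg.Agent.S4593

/-!
# The facts about the simple groups of abelian type
-/

set_option autoImplicit false
set_option linter.unusedSectionVars false
set_option linter.style.haveILetI false

namespace Cfsg.Agent.H50.WA

open Subgroup Cfsg.Agent
open scoped Pointwise

universe u

theorem isSolvable_of_abelian_sq {C : Type*} [Group C] (A : Subgroup C) [A.Normal]
    (hA : ∀ a ∈ A, ∀ b ∈ A, a * b = b * a) (hsq : ∀ x : C, x * x ∈ A) : Group.IsSolvable C := by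
  haveI : Group.IsSolvable ↥A :=
    Group.isSolvable_of_comm fun a b => Subtype.ext (hA a a.2 b b.2)
  haveI : Group.IsSolvable (C ⧸ A) := Group.isSolvable_of_comm fun a b => by
    have h : ∀ c : C ⧸ A, c⁻¹ = c := fun c => by
      obtain ⟨c, rfl⟩ := QuotientGroup.mk_surjective c
      exact inv_eq_of_mul_eq_one_right
        (by rw [← QuotientGroup.mk_mul, QuotientGroup.eq_one_iff]; exact hsq c)
    calc a * b = (a * b)⁻¹ := (h _).symm
      _ = b * a := by rw [mul_inv_rev, h, h]
  exact Group.isSolvable_of_ker_le_range A.subtype (QuotientGroup.mk' A)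
    (by rw [QuotientGroup.ker_mk', range_subtype])

section PSL

variable {F : Type} [Field F] [Fintype F]

local notation "P2" => Matrix.ProjectiveSpecialLinearGroup (Fin 2) F

open Linear.Dickson in
theorem sq_centralizer_even (n : ℕ) (hn : 2 ≤ n) (hq : Fintype.card F = 2 ^ n) {v x : P2}
    (hv1 : v ≠ 1) (hv : v * v = 1) (hx : x ∈ centralizer ({v} : Set P2)) : x * x = 1 := by
  have hs := Walter.Even.sq_eq n hn hq (mem_cen_self (stdUni : P2))
  obtain ⟨g, hg⟩ := isConj_iff.1 (Walter.Even.conj n hn hq stdUni v stdUni_ne_one hs hv1 hv)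
  have hx' : g⁻¹ * x * g ∈ centralizer ({stdUni} : Set P2) := by
    have h1 := mem_centralizer_singleton_iff.1 hx
    rw [← hg] at h1
    refine mem_centralizer_singleton_iff.2 ?_
    calc g⁻¹ * x * g * stdUni = g⁻¹ * (x * (g * stdUni * g⁻¹)) * g := by group
      _ = stdUni * (g⁻¹ * x * g) := by rw [h1]; group
  have h2 := Walter.Even.sq_eq n hn hq
    (Walter.Even.centralizer_le n hn hq (mem_cen_self stdUni) stdUni_ne_one hx')
  calc x * x = g * (g⁻¹ * x * g * (g⁻¹ * x * g)) * g⁻¹ := by group
    _ = 1 := by rw [h2]; group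

open Linear.Dickson in
theorem isSolvable_centralizer_odd (h8 : Fintype.card F % 8 = 3 ∨ Fintype.card F % 8 = 5)
    {v : P2} (hv1 : v ≠ 1) (hv : v * v = 1) :
    Group.IsSolvable ↥(centralizer ({v} : Set P2)) := by
  have hodd := Walter.Odd.odd_card h8
  have hu := H88.Walter.PSL.not_isUni hodd hv1 hv
  have hC := H88.Walter.PSL.centralizer_eq hodd hv1 hv
  haveI : ((cen v).subgroupOf (centralizer ({v} : Set P2))).Normal :=
    ⟨fun a ha g => mem_subgroupOf.2
      ((mem_normalizer_iff.1 (hC ▸ g.2 : (g : P2) ∈ normalizer ((cen v : Subgroup P2) : Set P2)) _).1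
        (mem_subgroupOf.1 ha))⟩
  refine isSolvable_of_abelian_sq ((cen v).subgroupOf (centralizer ({v} : Set P2)))
    (fun a ha b hb => Subtype.ext (cen_comm hv1 (mem_subgroupOf.1 ha) (mem_subgroupOf.1 hb)))
    fun x => mem_subgroupOf.2 ?_
  rcases normalizer_cases hu
    (mem_normalizer_iff.1 (hC ▸ x.2 : (x : P2) ∈ normalizer ((cen v : Subgroup P2) : Set P2))) with
    h | ⟨h, -⟩
  · exact mul_mem h h
  · show (x : P2) * x ∈ cen v
    rw [h]; exact one_mem _

end PSL

variable {K : Type u} [Group K] [Finite K]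

/-- Either the centralisers of involutions of `T` are in `T`, or `|T|` is 4 or 8; and they are
soluble unless `|T| = 8`. -/
theorem shape_cases (hsh : H10.Walter.Shape K) (hab : H10.Walter.AbSyl K) (T : Sylow 2 K) :
    ((∀ v ∈ (T : Subgroup K), v ≠ 1 → v * v = 1 → centralizer ({v} : Set K) ≤ (T : Subgroup K)) ∨
      Nat.card (T : Subgroup K) = 4 ∨ Nat.card (T : Subgroup K) = 8) ∧
    ((∀ v : K, v ≠ 1 → v * v = 1 → Group.IsSolvable ↥(centralizer ({v} : Set K))) ∨
      Nat.card (T : Subgroup K) = 8) := by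
  haveI : Fact (Nat.Prime 2) := ⟨Nat.prime_two⟩
  rcases hsh with ⟨F, _, _, n, hn, hq, ⟨i⟩⟩ | ⟨F, _, _, h5, h8, ⟨i⟩⟩ | hR
  · have key : ∀ v : K, v ≠ 1 → v * v = 1 → ∀ x ∈ centralizer ({v} : Set K), x * x = 1 := by
      intro v hv1 hv x hx
      refine i.injective ?_
      rw [map_mul, map_one]
      exact sq_centralizer_even n hn hq (v := i v) (fun e => hv1 (i.injective (e.trans (map_one i).symm)))
        (by rw [← map_mul, hv, map_one])
        (mem_centralizer_singleton_iff.2 (by
          rw [← map_mul, ← map_mul, mem_centralizer_singleton_iff.1 hx]))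
    refine ⟨Or.inl fun v hvT hv1 hv => ?_, Or.inl fun v hv1 hv => ?_⟩
    · have hp : IsPGroup 2 ↥(centralizer ({v} : Set K)) := fun x =>
        ⟨1, Subtype.ext (by simpa [pow_two] using key v hv1 hv x x.2)⟩
      exact (T.3 hp fun t ht => mem_centralizer_singleton_iff.2
        (congrArg Subtype.val ((hab T).is_comm.comm ⟨t, ht⟩ ⟨v, hvT⟩))).le
    · exact Group.isSolvable_of_comm fun a b => Subtype.ext (by
        have h : ∀ c : centralizer ({v} : Set K), (c : K)⁻¹ = c := fun c =>
          inv_eq_of_mul_eq_one_right (key v hv1 hv c c.2)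
        show (a : K) * b = b * a
        calc (a : K) * b = ((a * b : centralizer ({v} : Set K)) : K) := rfl
          _ = ((a * b : centralizer ({v} : Set K)) : K)⁻¹ := (h _).symm
          _ = b * a := by rw [Subgroup.coe_mul, mul_inv_rev, h, h])
  · refine ⟨Or.inr (Or.inl ?_), Or.inl fun v hv1 hv => ?_⟩
    · have h := Walter.Odd.card_sylow h8 (Walter.Odd.even_card h8)
        (T.mapSurjective (f := i.toMonoidHom) i.surjective)
      exact (Nat.card_congr
        ((T : Subgroup K).equivMapOfInjective i.toMonoidHom i.injective).toEquiv).trans h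
    · haveI := isSolvable_centralizer_odd h8 (v := i v)
        (fun e => hv1 (i.injective (e.trans (map_one i).symm))) (by rw [← map_mul, hv, map_one])
      let f : centralizer ({v} : Set K) →* centralizer ({i v} : Set _) :=
        (i.toMonoidHom.comp (centralizer ({v} : Set K)).subtype).codRestrict _ fun x =>
          mem_centralizer_singleton_iff.2 (by
            show i (x : K) * i v = i v * i (x : K)
            rw [← map_mul, ← map_mul, mem_centralizer_singleton_iff.1 x.2])
      exact Group.isSolvable_of_isSolvable_injective (f := f) fun a b e =>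
        Subtype.ext (i.injective (congrArg Subtype.val e))
  · exact ⟨Or.inr (Or.inr (hR.1 T)), Or.inr (hR.1 T)⟩

theorem card_mulAut_elem {V : Type*} [Group V] [Finite V] (hV : ∀ v : V, v * v = 1) :
    (Nat.card V = 4 → Nat.card (MulAut V) ∣ 6) ∧ (Nat.card V = 8 → Nat.card (MulAut V) ∣ 168) := by
  haveI : Fact (Nat.Prime 2) := ⟨Nat.prime_two⟩
  have hinv : ∀ a : V, a⁻¹ = a := fun a => inv_eq_of_mul_eq_one_right (hV a)
  have hp : IsPGroup 2 V := fun v => ⟨1, by rw [pow_one, pow_two, hV v]⟩
  have hF : frattini V = ⊥ := by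
    refine le_bot_iff.1 (PGroups.frattini_le_of_commutator_le (p := 2) ⊥ ?_ fun x => ?_)
    · rw [commutator_def, commutator_le]
      intro a _ b _
      rw [mem_bot, commutatorElement_eq_one_iff_mul_comm]
      calc a * b = (a * b)⁻¹ := (hinv _).symm
        _ = b * a := by rw [mul_inv_rev, hinv, hinv]
    · rw [mem_bot, pow_two]; exact hV x
  refine ⟨fun h => ?_, fun h => ?_⟩
  · refine (H77.card_mulAut_dvd hp (r := 2) (by rw [hF, index_bot, h]; rfl)).trans ?_
    rw [hF, card_bot, one_pow, one_mul]
    simp [Finset.prod_range_succ]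
  · refine (H77.card_mulAut_dvd hp (r := 3) (by rw [hF, index_bot, h]; rfl)).trans ?_
    rw [hF, card_bot, one_pow, one_mul]
    simp [Finset.prod_range_succ]

/-- Two elements of prime order `p` of a group of order less than `p * p` generate the same
subgroup. -/
theorem zpowers_eq_of_prime {G : Type*} [Group G] [Finite G] {p : ℕ} (hp : p.Prime)
    (hG : Nat.card G < p * p) {c d : G} (hc : orderOf c = p) (hd : orderOf d = p) :
    d ∈ zpowers c := by
  by_contra hn
  have hinf : zpowers c ⊓ zpowers d = ⊥ := by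
    rcases (Nat.dvd_prime hp).1 (hd ▸ Nat.card_zpowers d ▸
      card_dvd_of_le (inf_le_right : zpowers c ⊓ zpowers d ≤ zpowers d)) with h | h
    · exact card_eq_one.1 h
    · exact absurd ((inf_le_left : zpowers c ⊓ zpowers d ≤ zpowers c)
        ((eq_of_le_of_card_ge (inf_le_right : zpowers c ⊓ zpowers d ≤ zpowers d)
          (by rw [h, Nat.card_zpowers, hd])).symm ▸ mem_zpowers d)) hn
  have hinj : Function.Injective fun x : zpowers c × zpowers d => (x.1 : G) * x.2 :=
    Subgroup.mul_injective_of_disjoint (disjoint_iff.2 hinf)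
  have h := Nat.card_le_card_of_injective _ hinj
  rw [Nat.card_prod, Nat.card_zpowers, Nat.card_zpowers, hc, hd] at h
  omega

/-- The facts about a group of abelian type. -/
theorem aData (hK : H77.WA.AType K) (T : Sylow 2 K) : H77.WA.AData (T : Subgroup K) := by
  haveI : Fact (Nat.Prime 2) := ⟨Nat.prime_two⟩
  obtain ⟨hs, hna, hab, hsh⟩ := hK
  haveI := hs
  have hG : H88.Walter.GoodPiece (T : Subgroup K) := Walter.shapeData K hs hna hab hsh T
  have hZ : center K = ⊥ :=
    (IsSimpleGroup.eq_bot_or_eq_top_of_normal (center K) inferInstance).resolve_right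
      fun e => hna ⟨⟨fun a b => ((mem_center_iff.1 (e ▸ mem_top a : a ∈ center K)) b).symm⟩⟩
  obtain ⟨hcase, hsol⟩ := shape_cases hsh hab T
  have hcomm : ∀ a ∈ (T : Subgroup K), ∀ b ∈ (T : Subgroup K), a * b = b * a := fun a ha b hb =>
    congrArg Subtype.val ((hab T).is_comm.comm ⟨a, ha⟩ ⟨b, hb⟩)
  refine ⟨hG, ?_, ?_, ?_⟩
  · -- Singer element
    obtain ⟨y, hy, hyt⟩ := hG.cyc
    have hyT : ∀ x ∈ (T : Subgroup K), y * x * y⁻¹ ∈ (T : Subgroup K) :=
      fun x hx => (mem_normalizer_iff.1 hy x).1 hx
    refine ⟨y, hy, hyT, fun v hv w hw hv1 hw1 => hyt v hv w hw hv1 hw1, fun φ hφ => ?_⟩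
    have hm : (T : Subgroup K).map φ.toMonoidHom = T :=
      eq_of_le_of_card_ge (by rintro _ ⟨t, ht, rfl⟩; exact hφ t ht)
        (by rw [card_map_of_injective φ.injective])
    have hφy : φ y ∈ normalizer ((T : Subgroup K) : Set K) := by
      have h1 : φ y ∈ (normalizer ((T : Subgroup K) : Set K)).map φ.toMonoidHom := ⟨y, hy, rfl⟩
      have h2 := le_normalizer_map φ.toMonoidHom h1
      rwa [hm] at h2
    rcases hcase with hC | h48
    · obtain ⟨v, hv, hv1⟩ : ∃ v ∈ (T : Subgroup K), v ≠ 1 :=
        (T : Subgroup K).bot_or_exists_ne_one.resolve_left fun e => by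
          have := hG.four; rw [e, card_bot] at this; omega
      have hv' : φ y * v * (φ y)⁻¹ ∈ (T : Subgroup K) := (mem_normalizer_iff.1 hφy v).1 hv
      obtain ⟨k, hk⟩ := hyt v hv _ hv' hv1 (fun e => hv1 (by
        rwa [mul_inv_eq_one, mul_eq_left] at e))
      have hc : (y ^ k)⁻¹ * φ y ∈ (T : Subgroup K) := by
        refine hC v hv hv1 (hG.sq v hv) (mem_centralizer_singleton_iff.2 ?_)
        calc (y ^ k)⁻¹ * φ y * v = (y ^ k)⁻¹ * (φ y * v * (φ y)⁻¹) * φ y := by group
          _ = v * ((y ^ k)⁻¹ * φ y) := by rw [← hk]; group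
      refine ⟨k, fun x hx => ?_⟩
      calc φ y * x * (φ y)⁻¹
          = y ^ k * ((y ^ k)⁻¹ * φ y * x) * (φ y)⁻¹ := by group
        _ = y ^ k * x * (y ^ k)⁻¹ := by rw [hcomm _ hc x hx]; group
    · set N := normalizer ((T : Subgroup K) : Set K)
      haveI hnorm : ((T : Subgroup K).subgroupOf N).Normal := normal_in_normalizer
      let f : N →* MulAut ↥((T : Subgroup K).subgroupOf N) := MulAut.conjNormal
      have hf : ∀ (n : N) (x : ↥((T : Subgroup K).subgroupOf N)),
          ((f n x : N) : K) = n * ((x : N) : K) * (n : K)⁻¹ := fun n x => by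
        simp [f, MulAut.conjNormal_apply]
      have hTN : (T : Subgroup K) ≤ N := le_normalizer
      have hcard : Nat.card ↥((T : Subgroup K).subgroupOf N) = Nat.card (T : Subgroup K) :=
        Nat.card_congr (subgroupOfEquivOfLe hTN).toEquiv
      have hsq : ∀ x : ↥((T : Subgroup K).subgroupOf N), x * x = 1 := fun x =>
        Subtype.ext (Subtype.ext (hG.sq _ x.2))
      have hodd : Odd (Nat.card f.range) := by
        rw [Nat.odd_iff, ← Nat.not_even_iff, even_iff_two_dvd]
        intro hd
        have hle : ((T : Subgroup K).subgroupOf N) ≤ f.ker := fun t ht => MulEquiv.ext fun x =>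
          Subtype.ext (Subtype.ext (by
            rw [hf, hcomm (t : K) ht ((x : N) : K) x.2, mul_inv_cancel_right]; rfl))
        have h1 : f.ker.index ∣ ((T : Subgroup K).subgroupOf N).index := index_dvd_of_le hle
        rw [Subgroup.index_ker] at h1
        have h2 : ((T : Subgroup K).subgroupOf N).index ∣ (T : Subgroup K).index :=
          relIndex_dvd_index_of_le hTN
        exact T.not_dvd_index ((hd.trans h1).trans h2)
      obtain ⟨v₀, hv₀, hv₀1⟩ : ∃ v ∈ (T : Subgroup K), v ≠ 1 :=
        (T : Subgroup K).bot_or_exists_ne_one.resolve_left fun e => by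
          have := hG.four; rw [e, card_bot] at this; omega
      have hcardne : Nat.card {x : ↥((T : Subgroup K).subgroupOf N) // x ≠ 1} =
          Nat.card (T : Subgroup K) - 1 := by
        classical
        haveI := Fintype.ofFinite ↥((T : Subgroup K).subgroupOf N)
        rw [Nat.card_eq_fintype_card, Fintype.card_subtype_compl, Fintype.card_subtype_eq,
          ← Nat.card_eq_fintype_card, hcard]
      have hord : ∀ z : N, (∀ v ∈ (T : Subgroup K), ∀ w ∈ (T : Subgroup K), v ≠ 1 → w ≠ 1 →
          ∃ k : ℕ, (z : K) ^ k * v * ((z : K) ^ k)⁻¹ = w) →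
          orderOf (f z) = Nat.card (T : Subgroup K) - 1 := by
        intro z hz
        let v' : ↥((T : Subgroup K).subgroupOf N) := ⟨⟨v₀, hTN hv₀⟩, hv₀⟩
        have hv'1 : v' ≠ 1 := fun e => hv₀1 (congrArg Subtype.val (congrArg Subtype.val e))
        let g : ℕ → {x : ↥((T : Subgroup K).subgroupOf N) // x ≠ 1} := fun i =>
          ⟨((f z) ^ i) v', fun e => hv'1 (((f z) ^ i).injective (e.trans (map_one _).symm))⟩
        have hsurj : ∀ w, ∃ k, g k = w := by
          rintro ⟨⟨⟨w, hwN⟩, hw⟩, hw1⟩
          obtain ⟨k, hk⟩ := hz v₀ hv₀ w hw hv₀1 (fun e => hw1 (Subtype.ext (Subtype.ext e)))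
          refine ⟨k, Subtype.ext (Subtype.ext (Subtype.ext ?_))⟩
          show ((((f z) ^ k) v' : N) : K) = w
          rw [← map_pow, hf]
          simpa [v'] using hk
        refine le_antisymm ?_ ?_
        · -- a repetition among `|T|` powers gives the order
          obtain ⟨i, j, e, hij⟩ := Function.not_injective_iff.1
            (fun hinj : Function.Injective (fun i : Fin (Nat.card (T : Subgroup K)) => g i) => by
              have h1 := Nat.card_le_card_of_injective _ hinj
              rw [hcardne, Nat.card_fin] at h1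
              have := hG.four; omega)
          wlog hlt : (i : ℕ) < j generalizing i j
          · exact this j i e.symm hij.symm (lt_of_le_of_ne (not_lt.1 hlt)
              (fun h => hij (Fin.ext h.symm)))
          obtain ⟨r, hr⟩ := Nat.exists_eq_add_of_lt hlt
          have hr1 : (f z) ^ (r + 1) = 1 := by
            refine MulEquiv.ext fun x => ?_
            by_cases hx : x = 1
            · rw [hx, map_one]; rfl
            obtain ⟨k, hk⟩ := hsurj ⟨x, hx⟩
            have ex : ((f z) ^ k) v' = x := congrArg Subtype.val hk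
            have e1 : ((f z) ^ (i : ℕ)) v' = ((f z) ^ (j : ℕ)) v' := congrArg Subtype.val e
            rw [hr, add_assoc, pow_add, MulAut.mul_apply] at e1
            have e2 : ((f z) ^ (r + 1)) v' = v' := (((f z) ^ (i : ℕ)).injective e1).symm
            rw [MulAut.one_apply, ← ex, ← MulAut.mul_apply, ← pow_add, add_comm, pow_add,
              MulAut.mul_apply, e2]
          have := Nat.le_of_dvd (by omega) (orderOf_dvd_of_pow_eq_one hr1)
          have := j.2
          omega
        · have h1 := Nat.card_le_card_of_surjective (fun i : Fin (orderOf (f z)) => g i) fun w => by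
            obtain ⟨k, hk⟩ := hsurj w
            refine ⟨⟨k % orderOf (f z), Nat.mod_lt _ (orderOf_pos _)⟩, ?_⟩
            rw [← hk]
            exact Subtype.ext (by show ((f z) ^ (k % orderOf (f z))) v' = ((f z) ^ k) v'
                                  rw [pow_mod_orderOf])
          rwa [hcardne, Nat.card_fin] at h1
      have hφyt : ∀ v ∈ (T : Subgroup K), ∀ w ∈ (T : Subgroup K), v ≠ 1 → w ≠ 1 →
          ∃ k : ℕ, φ y ^ k * v * (φ y ^ k)⁻¹ = w := by
        intro v hv w hw hv1 hw1
        rw [← hm] at hv hw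
        obtain ⟨v, hv', rfl⟩ := hv
        obtain ⟨w, hw', rfl⟩ := hw
        obtain ⟨k, hk⟩ := hyt v hv' w hw' (fun e => hv1 (by rw [e, map_one]))
          (fun e => hw1 (by rw [e, map_one]))
        exact ⟨k, by
          show φ y ^ k * φ v * (φ y ^ k)⁻¹ = φ w
          rw [← hk, map_mul, map_mul, map_inv, map_pow]⟩
      set c : f.range := ⟨f ⟨y, hy⟩, ⟨y, hy⟩, rfl⟩ with hc
      set d : f.range := ⟨f ⟨φ y, hφy⟩, ⟨φ y, hφy⟩, rfl⟩ with hd
      have hco : orderOf c = Nat.card (T : Subgroup K) - 1 := by
        exact (Subgroup.orderOf_coe c).symm.trans (hord ⟨y, hy⟩ hyt)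
      have hdo : orderOf d = Nat.card (T : Subgroup K) - 1 := by
        exact (Subgroup.orderOf_coe d).symm.trans (hord ⟨φ y, hφy⟩ hφyt)
      have hdvd := card_subgroup_dvd_card f.range
      have hmem : d ∈ zpowers c := by
        rcases h48 with h4 | h8
        · have h6 := hdvd.trans ((card_mulAut_elem hsq).1 (hcard.trans h4))
          have h3 : Nat.card f.range ∣ 3 :=
            (Nat.coprime_two_right.2 hodd).dvd_of_dvd_mul_left (m := 2) h6
          refine zpowers_eq_of_prime (p := 3) Nat.prime_three ?_ (hco.trans (by rw [h4]))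
            (hdo.trans (by rw [h4]))
          exact lt_of_le_of_lt (Nat.le_of_dvd (by norm_num) h3) (by norm_num)
        · have h168 := hdvd.trans ((card_mulAut_elem hsq).2 (hcard.trans h8))
          have h21 : Nat.card f.range ∣ 21 :=
            (Nat.Coprime.pow_right 3 (Nat.coprime_two_right.2 hodd)).dvd_of_dvd_mul_left
              (m := 2 ^ 3) h168
          refine zpowers_eq_of_prime (p := 7) (by norm_num) ?_ (hco.trans (by rw [h8]))
            (hdo.trans (by rw [h8]))
          exact lt_of_le_of_lt (Nat.le_of_dvd (by norm_num) h21) (by norm_num)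
      obtain ⟨k, hk⟩ := Submonoid.mem_powers_iff _ _ |>.1 (mem_powers_iff_mem_zpowers.2 hmem)
      refine ⟨k, fun x hx => ?_⟩
      have e := congrArg (fun z : f.range =>
        (((z : MulAut ↥((T : Subgroup K).subgroupOf N)) ⟨⟨x, hTN hx⟩, hx⟩ : N) : K)) hk
      simp only [hc, hd, SubmonoidClass.coe_pow, ← map_pow, hf] at e
      simpa using e.symm
  · -- automorphisms of 2-power order
    rintro φ ⟨j, hj⟩ hfix
    have hcore : Cfsg.pPrimeCore 2 K = ⊥ := by
      refine (IsSimpleGroup.eq_bot_or_eq_top_of_normal _ inferInstance).resolve_right fun e => ?_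
      have h := Cores.odd_card_oddCore (G := K)
      rw [show Cfsg.oddCore K = Cfsg.pPrimeCore 2 K from rfl, e, card_top] at h
      obtain ⟨v, hv, hv1⟩ : ∃ v ∈ (T : Subgroup K), v ≠ 1 :=
        (T : Subgroup K).bot_or_exists_ne_one.resolve_left fun e => by
          have := hG.four; rw [e, card_bot] at this; omega
      exact hv1 (orderOf_eq_one_iff.1 (Nat.eq_one_of_dvd_coprimes (Nat.coprime_two_left.2 h)
        (orderOf_dvd_of_pow_eq_one (by rw [pow_two, hG.sq v hv])) (orderOf_dvd_natCard v)))
    obtain ⟨i, -, hi⟩ := (Nat.dvd_prime_pow Nat.prime_two).1 (orderOf_dvd_of_pow_eq_one hj)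
    obtain ⟨g, hg⟩ := S4593.result hZ hcore T (hab T) φ ⟨i, hi⟩ hfix
    have hφ : φ = MulAut.conj g := MulEquiv.ext fun x => by simpa using hg x
    refine ⟨g, mem_of_two_element T ?_ (j := j) ?_, hφ⟩
    · exact mem_normalizer_iff.2 fun t => ⟨fun ht => by rw [← hg, hfix t ht]; exact ht, fun ht => by
        rw [← hg t] at ht
        have h2 : φ (φ t) = φ t := hfix _ ht
        rwa [φ.injective h2] at ht⟩
    · have h1 : MulAut.conj (g ^ 2 ^ j) = 1 := by rw [map_pow, ← hφ, hj]
      exact (H88.Walter.conj_eq_one_iff hZ).1 h1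
  · intro x hx hx1 hns
    exact hsol.resolve_left fun h => hns (h x hx1 (hG.sq x hx))

end Cfsg.Agent.H50.WA
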