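import Cfsg.Agent.H77.WA.Defs
import Cfsg.Agent.H76.PostBender.Trans
import Cfsg.Agent.H6.StrongClosed.Irred

/-!
# A Sylow 2-subgroup of a rank one group with non-abelian Sylow 2-subgroups

`Model T V` collects what is read off from the coordinates of `Sz(q)` and `PSU₃(q)`; the facts
used in the strongly closed abelian programme are derived from it.
-/

set_option autoImplicit false
set_option linter.unusedSectionVars false
set_option linter.style.haveILetI false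

namespace Cfsg.Agent.H50.WA

open Subgroup
open scoped Pointwise

variable {K : Type*} [Group K]

/-- The coordinates of a Sylow 2-subgroup of `Sz(q)` or `PSU₃(q)`. -/
structure Model (T : Sylow 2 K) (V : Subgroup K) : Prop where
  mem_iff : ∀ x : K, x ∈ V ↔ x ∈ (T : Subgroup K) ∧ x * x = 1
  four : 4 ≤ Nat.card V
  central : V ≤ centralizer ((T : Subgroup K) : Set K)
  sq_mem : ∀ t ∈ (T : Subgroup K), t * t ∈ V
  nonab : ∃ s ∈ (T : Subgroup K), ∃ t ∈ (T : Subgroup K), s * t ≠ t * s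
  cyclicQuot : ∃ y ∈ normalizer ((T : Subgroup K) : Set K),
    ∀ n ∈ normalizer ((T : Subgroup K) : Set K), ∃ k : ℕ, (y ^ k)⁻¹ * n ∈ (T : Subgroup K)
  trans : ∀ v ∈ V, ∀ w ∈ V, v ≠ 1 → w ≠ 1 →
    ∃ n ∈ normalizer ((T : Subgroup K) : Set K), n * v * n⁻¹ = w
  cent_le : ∀ v ∈ V, v ≠ 1 → centralizer ({v} : Set K) ≤ normalizer ((T : Subgroup K) : Set K)
  comm_sq : ∀ t ∈ (T : Subgroup K), t ∉ V → ∀ v ∈ V,
    ∃ s ∈ (T : Subgroup K), ∃ i : ℕ, v = (t * t) ^ i * (t * s * t⁻¹ * s⁻¹)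
  thin : ∀ H : Subgroup K, H ≤ V → H ≠ V → ∀ t ∈ (T : Subgroup K), ∀ t' ∈ (T : Subgroup K),
    (∀ s ∈ (T : Subgroup K), t * s * t⁻¹ * s⁻¹ ∈ H) →
    (∀ s ∈ (T : Subgroup K), t' * s * t'⁻¹ * s⁻¹ ∈ H) → t * t' = t' * t
  alt : (∃ y ∈ normalizer ((T : Subgroup K) : Set K), Odd (orderOf y) ∧ (∀ v ∈ V, Commute y v) ∧
      ∀ t ∈ (T : Subgroup K), ∃ s ∈ (T : Subgroup K), ∃ v ∈ V, t = s * y * s⁻¹ * y⁻¹ * v) ∨
    ((∀ k : ℕ, Nat.card V ≠ k ^ 2) ∧
      ∀ t ∈ (T : Subgroup K), t ∉ V → ∀ t' ∈ (T : Subgroup K), t' ∉ V →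
        ∃ n ∈ normalizer ((T : Subgroup K) : Set K), (n * t * n⁻¹)⁻¹ * t' ∈ V)
  line : ∀ t ∈ (T : Subgroup K), t ∉ V → ∃ D : Subgroup K, V ≤ D ∧ D ≤ (T : Subgroup K) ∧
    8 * Nat.card V ≤ Nat.card D ∧ t ∈ D ∧
    ∀ d ∈ D, d ∉ V → ∃ n ∈ normalizer ((T : Subgroup K) : Set K), (n * t * n⁻¹)⁻¹ * d ∈ V

/-- A 2-element normalising a Sylow 2-subgroup lies in it. -/
theorem mem_of_two_element [Finite K] (T : Sylow 2 K) {x : K}
    (hx : x ∈ normalizer ((T : Subgroup K) : Set K)) {j : ℕ} (hj : x ^ 2 ^ j = 1) :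
    x ∈ (T : Subgroup K) := by
  haveI : Fact (Nat.Prime 2) := ⟨Nat.prime_two⟩
  have hp : IsPGroup 2 ↥(zpowers x) := by
    rintro ⟨_, i, rfl⟩
    refine ⟨j, Subtype.ext ?_⟩
    show (x ^ i) ^ 2 ^ j = 1
    rw [← zpow_natCast, ← zpow_mul, mul_comm, zpow_mul, zpow_natCast, hj, one_zpow]
  have hle : zpowers x ≤ normalizer ((T : Subgroup K) : Set K) := zpowers_le.2 hx
  have h2 := hp.to_sup_of_normal_right' T.isPGroup' hle
  exact (T.3 h2 le_sup_right) ▸ mem_sup_left (mem_zpowers x)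

theorem map_smul (ψ : MulAut K) (g : K) (Q : Sylow 2 K) :
    ((g • Q : Sylow 2 K) : Subgroup K).map ψ.toMonoidHom =
      ((Q : Subgroup K).map ψ.toMonoidHom).map (MulAut.conj (ψ g)).toMonoidHom := by
  show ((Q : Subgroup K).map (MulAut.conj g).toMonoidHom).map ψ.toMonoidHom = _
  rw [map_map, map_map]
  exact congrArg (fun f : K →* K => (Q : Subgroup K).map f) (MonoidHom.ext fun y => by simp)

namespace Model

variable {T : Sylow 2 K} {V : Subgroup K} (h : Model T V)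

include h

theorem le : V ≤ (T : Subgroup K) := fun x hx => ((h.mem_iff x).1 hx).1

theorem sq {v : K} (hv : v ∈ V) : v * v = 1 := ((h.mem_iff v).1 hv).2

theorem comm_V {v t : K} (hv : v ∈ V) (ht : t ∈ (T : Subgroup K)) : v * t = t * v :=
  (mem_centralizer_iff.1 (h.central hv) t ht).symm

theorem conj_T {n t : K} (hn : n ∈ normalizer ((T : Subgroup K) : Set K))
    (ht : t ∈ (T : Subgroup K)) : n * t * n⁻¹ ∈ (T : Subgroup K) :=
  (mem_normalizer_iff.1 hn t).1 ht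

theorem conj_V {n v : K} (hn : n ∈ normalizer ((T : Subgroup K) : Set K)) (hv : v ∈ V) :
    n * v * n⁻¹ ∈ V :=
  (h.mem_iff _).2 ⟨h.conj_T hn (h.le hv), by
    rw [show n * v * n⁻¹ * (n * v * n⁻¹) = n * (v * v) * n⁻¹ by group, h.sq hv, mul_one,
      mul_inv_cancel]⟩

theorem conj_notMem {n t : K} (hn : n ∈ normalizer ((T : Subgroup K) : Set K)) (ht : t ∉ V) :
    n * t * n⁻¹ ∉ V := fun e => ht (by
  have h1 := h.conj_V (inv_mem hn) e
  rwa [show n⁻¹ * (n * t * n⁻¹) * n⁻¹⁻¹ = t by group] at h1)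

/-- The action of `N(T)` on `V` is that of a cyclic group. -/
theorem act : ∃ y ∈ normalizer ((T : Subgroup K) : Set K),
    ∀ n ∈ normalizer ((T : Subgroup K) : Set K), ∃ k : ℕ, ∀ v ∈ V,
      n * v * n⁻¹ = y ^ k * v * (y ^ k)⁻¹ := by
  obtain ⟨y, hy, hy'⟩ := h.cyclicQuot
  refine ⟨y, hy, fun n hn => ?_⟩
  obtain ⟨k, hk⟩ := hy' n hn
  refine ⟨k, fun v hv => ?_⟩
  have hc : (y ^ k)⁻¹ * n * v = v * ((y ^ k)⁻¹ * n) := (h.comm_V hv hk).symm
  calc n * v * n⁻¹ = y ^ k * ((y ^ k)⁻¹ * n * v) * n⁻¹ := by group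
    _ = y ^ k * v * (y ^ k)⁻¹ := by rw [hc]; group

theorem act_comm {n m v : K} (hn : n ∈ normalizer ((T : Subgroup K) : Set K))
    (hm : m ∈ normalizer ((T : Subgroup K) : Set K)) (hv : v ∈ V) :
    n * (m * v * m⁻¹) * n⁻¹ = m * (n * v * n⁻¹) * m⁻¹ := by
  obtain ⟨y, hy, hy'⟩ := h.act
  obtain ⟨i, hi⟩ := hy' n hn
  obtain ⟨j, hj⟩ := hy' m hm
  rw [hi _ (h.conj_V hm hv), hj v hv, hi v hv, hj _ (h.conj_V (pow_mem hy i) hv)]
  calc y ^ i * (y ^ j * v * (y ^ j)⁻¹) * (y ^ i)⁻¹ = y ^ (i + j) * v * (y ^ (i + j))⁻¹ := by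
        rw [pow_add]; group
    _ = y ^ j * (y ^ i * v * (y ^ i)⁻¹) * (y ^ j)⁻¹ := by rw [add_comm, pow_add]; group

theorem comm_mem {s t : K} (hs : s ∈ (T : Subgroup K)) (ht : t ∈ (T : Subgroup K)) :
    s * t * s⁻¹ * t⁻¹ ∈ V := by
  rw [show s * t * s⁻¹ * t⁻¹ = s * s * ((s⁻¹ * t) * (s⁻¹ * t)) * (t⁻¹ * t⁻¹) by group]
  exact mul_mem (mul_mem (h.sq_mem s hs) (h.sq_mem _ (mul_mem (inv_mem hs) ht)))
    (h.sq_mem _ (inv_mem ht))

theorem exists_ne_one : ∃ v ∈ V, v ≠ 1 := V.bot_or_exists_ne_one.resolve_left fun e => by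
  have := h.four
  rw [e, card_bot] at this
  omega

theorem sq_onto {v : K} (hv : v ∈ V) : ∃ t ∈ (T : Subgroup K), t * t = v := by
  by_cases hv1 : v = 1
  · exact ⟨1, one_mem _, by rw [hv1, one_mul]⟩
  obtain ⟨s, hs, hs1⟩ : ∃ s ∈ (T : Subgroup K), s * s ≠ 1 := by
    by_contra hne
    push Not at hne
    obtain ⟨s, hs, t, ht, hne'⟩ := h.nonab
    exact hne' (h.comm_V ((h.mem_iff s).2 ⟨hs, hne s hs⟩) ht)
  obtain ⟨n, hn, rfl⟩ := h.trans _ (h.sq_mem s hs) v hv hs1 hv1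
  exact ⟨n * s * n⁻¹, h.conj_T hn hs, by group⟩

theorem commutator_eq : ⁅(T : Subgroup K), (T : Subgroup K)⁆ = V := by
  refine le_antisymm (commutator_le.2 fun s hs t ht => h.comm_mem hs ht) fun v hv => ?_
  by_cases hv1 : v = 1
  · rw [hv1]; exact one_mem _
  obtain ⟨s, hs, t, ht, hne⟩ := h.nonab
  have hne' : s * t * s⁻¹ * t⁻¹ ≠ 1 := fun e =>
    hne (mul_inv_eq_iff_eq_mul.1 (mul_inv_eq_one.1 e))
  obtain ⟨n, hn, rfl⟩ := h.trans _ (h.comm_mem hs ht) v hv hne' hv1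
  rw [show n * (s * t * s⁻¹ * t⁻¹) * n⁻¹ =
    (n * s * n⁻¹) * (n * t * n⁻¹) * (n * s * n⁻¹)⁻¹ * (n * t * n⁻¹)⁻¹ by group]
  exact commutator_mem_commutator (h.conj_T hn hs) (h.conj_T hn ht)

variable [Finite K]

/-- An involution in a Sylow 2-subgroup is central in it. -/
theorem central_invol {P : Sylow 2 K} {v : K} (hv : v ∈ (P : Subgroup K)) (hvv : v * v = 1)
    {x : K} (hx : x ∈ (P : Subgroup K)) : x * v = v * x := by
  haveI : Fact (Nat.Prime 2) := ⟨Nat.prime_two⟩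
  obtain ⟨g, rfl⟩ := MulAction.exists_smul_eq K T P
  obtain ⟨v, hv0, rfl⟩ := hv
  obtain ⟨x, hx0, rfl⟩ := hx
  have hv0V : v ∈ V := (h.mem_iff v).2 ⟨hv0, (MulAut.conj g).injective (by
    rw [map_mul, map_one]; exact hvv)⟩
  show (MulAut.conj g) x * (MulAut.conj g) v = (MulAut.conj g) v * (MulAut.conj g) x
  rw [← map_mul, ← map_mul, h.comm_V hv0V hx0]

theorem regular {τ : K} (hτ : τ ∈ (T : Subgroup K)) {P : Sylow 2 K} (hP : P ≠ T)
    (hfix : τ • P = P) : τ = 1 := by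
  by_contra hτ1
  obtain ⟨v, hvV, hv1, hvP⟩ : ∃ v ∈ V, v ≠ 1 ∧ v • P = P := by
    by_cases h2 : τ * τ = 1
    · exact ⟨τ, (h.mem_iff τ).2 ⟨hτ, h2⟩, hτ1, hfix⟩
    · exact ⟨_, h.sq_mem τ hτ, h2, by rw [mul_smul, hfix, hfix]⟩
  have hvP' : v ∈ (P : Subgroup K) := mem_of_two_element P (Sylow.smul_eq_iff_mem_normalizer.1 hvP)
    (j := 1) (by rw [pow_one, pow_two, h.sq hvV])
  refine hP (Sylow.ext (P.3 T.isPGroup' fun x hx => ?_).symm)
  obtain ⟨j, hj⟩ := P.isPGroup' ⟨x, hx⟩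
  exact mem_of_two_element T (h.cent_le v hvV hv1
    (mem_centralizer_singleton_iff.2 (h.central_invol hvP' (h.sq hvV) hx)))
    (j := j) (by simpa using congrArg Subtype.val hj)

variable [IsSimpleGroup K]

theorem normalizer_ne_top : normalizer ((T : Subgroup K) : Set K) ≠ ⊤ := by
  intro e
  haveI : Fact (Nat.Prime 2) := ⟨Nat.prime_two⟩
  haveI : (T : Subgroup K).Normal := normalizer_eq_top_iff.1 e
  rcases IsSimpleGroup.eq_bot_or_eq_top_of_normal (T : Subgroup K) inferInstance with hb | ht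
  · obtain ⟨v, hv, hv1⟩ := h.exists_ne_one
    exact hv1 (mem_bot.1 (hb ▸ h.le hv))
  · have hp : IsPGroup 2 K := fun x => by
      obtain ⟨j, hj⟩ := T.isPGroup' ⟨x, by rw [ht]; exact mem_top x⟩
      exact ⟨j, by simpa using congrArg Subtype.val hj⟩
    haveI := hp.center_nontrivial
    have hc := (IsSimpleGroup.eq_bot_or_eq_top_of_normal (center K) inferInstance).resolve_left
      ((nontrivial_iff_ne_bot _).1 inferInstance)
    obtain ⟨s, -, t, -, hne⟩ := h.nonab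
    exact hne ((mem_center_iff.1 (hc ▸ mem_top t : t ∈ center K)) s)

theorem exists_other : ∃ P : Sylow 2 K, P ≠ T := by
  obtain ⟨g, hg⟩ : ∃ g : K, g ∉ normalizer ((T : Subgroup K) : Set K) := by
    by_contra hne
    push Not at hne
    exact h.normalizer_ne_top (eq_top_iff.2 fun g _ => hne g)
  exact ⟨g • T, fun e => hg (Sylow.smul_eq_iff_mem_normalizer.1 e)⟩

theorem eq_one_of_fix_all {x : K} (hx : ∀ P : Sylow 2 K, x • P = P) : x = 1 := by
  let M : Subgroup K :=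
    { carrier := {y | ∀ P : Sylow 2 K, y • P = P}
      one_mem' := fun P => one_smul K P
      mul_mem' := fun {a b} ha hb P => by rw [mul_smul, hb, ha]
      inv_mem' := fun {a} ha P => inv_smul_eq_iff.2 (ha P).symm }
  haveI : M.Normal := ⟨fun y hy g P => by
    rw [mul_smul, mul_smul, hy, smul_inv_smul]⟩
  rcases IsSimpleGroup.eq_bot_or_eq_top_of_normal M inferInstance with hb | ht
  · exact mem_bot.1 (hb ▸ (hx : x ∈ M))
  · refine absurd (eq_top_iff.2 fun g _ => ?_) h.normalizer_ne_top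
    have hg : g ∈ M := ht ▸ mem_top g
    exact Sylow.smul_eq_iff_mem_normalizer.1 (hg T)

variable (hS : H76.PostBender.SylTrans 2 K)

include hS

/-- An element of odd order centralising `T` is trivial. -/
theorem eq_one_of_odd_cent {x : K} (ho : Odd (orderOf x))
    (hx : ∀ t ∈ (T : Subgroup K), x * t = t * x) : x = 1 := by
  obtain ⟨P, hP⟩ := h.exists_other
  have hxT : x • T = T := Sylow.smul_eq_iff_mem_normalizer.2 (mem_normalizer_iff.2 fun t =>
    ⟨fun ht => by rwa [hx t ht, mul_inv_cancel_right], fun ht => by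
      have e := hx _ ht
      have e2 : t = x * t * x⁻¹ := by
        calc t = x⁻¹ * (x * t * x⁻¹ * x) := by group
          _ = x * t * x⁻¹ := by rw [← e, inv_mul_cancel_left]
      rw [e2]; exact ht⟩)
  have hxP : x • P ≠ T := fun e => hP (by rw [← inv_smul_smul x P, e, inv_smul_eq_iff.2 hxT.symm])
  obtain ⟨τ, hτ, hτP⟩ := hS T P (x • P) hP hxP
  have hc : Commute x τ := hx τ hτ
  have hk : ∀ k : ℕ, x ^ k • P = τ ^ k • P := by
    intro k
    induction k with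
    | zero => simp
    | succ k ih => rw [pow_succ, mul_smul, ← hτP, ← mul_smul, (hc.pow_left k).eq, mul_smul, ih,
        ← mul_smul, ← pow_succ']
  have h4 : τ ^ 4 = 1 := by
    rw [show (4 : ℕ) = 2 * 2 from rfl, pow_mul, pow_two, pow_two, h.sq (h.sq_mem τ hτ)]
  have hx4 : x ^ 4 = 1 := h.eq_one_of_fix_all fun Q => by
    by_cases hQ : Q = T
    · rw [hQ]
      exact Sylow.smul_eq_iff_mem_normalizer.2
        (pow_mem (Sylow.smul_eq_iff_mem_normalizer.1 hxT) 4)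
    · obtain ⟨σ, hσ, rfl⟩ := hS T P Q hP hQ
      have hcσ : Commute x σ := hx σ hσ
      rw [← mul_smul, (hcσ.pow_left 4).eq, mul_smul, hk 4, h4, one_smul]
  refine orderOf_eq_one_iff.1 (Nat.eq_one_of_dvd_coprimes (Nat.coprime_two_left.2 ho).symm
    dvd_rfl ?_)
  refine (Nat.Coprime.dvd_of_dvd_mul_left (Nat.coprime_two_right.2 ho) ?_)
  rw [show 2 * 2 = 4 from rfl]
  exact orderOf_dvd_of_pow_eq_one hx4

/-- An element of `N(T)` trivial on `V` and `T/V` lies in `T`. -/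
theorem mem_T_of_trivial {d : K} (hd : d ∈ normalizer ((T : Subgroup K) : Set K))
    (hv : ∀ v ∈ V, d * v * d⁻¹ = v) (ht : ∀ t ∈ (T : Subgroup K), d * t * d⁻¹ * t⁻¹ ∈ V) :
    d ∈ (T : Subgroup K) := by
  have hk : ∀ (k : ℕ), ∀ t ∈ (T : Subgroup K),
      d ^ k * t * (d ^ k)⁻¹ = (d * t * d⁻¹ * t⁻¹) ^ k * t := by
    intro k t htT
    induction k with
    | zero => simp
    | succ k ih =>
      have hv' := hv _ (pow_mem (ht t htT) k)
      calc d ^ (k + 1) * t * (d ^ (k + 1))⁻¹ = d * (d ^ k * t * (d ^ k)⁻¹) * d⁻¹ := by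
            rw [pow_succ']; group
        _ = (d * (d * t * d⁻¹ * t⁻¹) ^ k * d⁻¹) * (d * t * d⁻¹) := by rw [ih]; group
        _ = (d * t * d⁻¹ * t⁻¹) ^ (k + 1) * t := by rw [hv', pow_succ]; group
  obtain ⟨a, o, ho, hao⟩ :=
    Nat.exists_eq_two_pow_mul_odd (orderOf_pos d).ne'
  refine mem_of_two_element T hd (j := a) ?_
  have heo : orderOf (d ^ 2 ^ a) = o := by
    rw [orderOf_pow' _ (by positivity), hao, Nat.gcd_mul_right_left,
      Nat.mul_div_cancel_left _ (by positivity)]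
  refine h.eq_one_of_odd_cent hS (heo ▸ ho) fun t htT => ?_
  have hu := pow_mem (ht t htT) (2 ^ a)
  have e1 := hk (2 ^ a) t htT
  have e2 : (d * t * d⁻¹ * t⁻¹) ^ (2 ^ a * o) * t = t := by
    rw [← hk _ t htT, ← hao, pow_orderOf_eq_one]; group
  rw [mul_eq_right, pow_mul] at e2
  obtain ⟨r, rfl⟩ := ho
  rw [pow_succ, pow_mul, pow_two, h.sq hu, one_pow, one_mul] at e2
  rw [e2, one_mul] at e1
  exact mul_inv_eq_iff_eq_mul.1 e1

/-- An automorphism fixing `V` and trivial on `T/V` is inner by an element of `T`. -/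
theorem inner {φ : MulAut K} (hφV : ∀ v ∈ V, φ v = v)
    (hφT : ∀ t ∈ (T : Subgroup K), φ t * t⁻¹ ∈ V) :
    ∃ t ∈ (T : Subgroup K), φ = MulAut.conj t := by
  haveI : Fact (Nat.Prime 2) := ⟨Nat.prime_two⟩
  have hmapT : ∀ ψ : MulAut K, (∀ t ∈ (T : Subgroup K), ψ t * t⁻¹ ∈ V) →
      (T : Subgroup K).map ψ.toMonoidHom = T := by
    intro ψ hψ
    refine eq_of_le_of_card_ge ?_ (by rw [card_map_of_injective ψ.injective])
    rintro _ ⟨t, ht, rfl⟩
    have := mul_mem (h.le (hψ t ht)) ht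
    rwa [inv_mul_cancel_right] at this
  obtain ⟨P, hP⟩ := h.exists_other
  set P' : Sylow 2 K := P.mapSurjective (f := φ.toMonoidHom) φ.surjective with hP'def
  have hP' : (P' : Subgroup K) = (P : Subgroup K).map φ.toMonoidHom :=
    Sylow.coe_mapSurjective _ _
  have hP'T : P' ≠ T := fun e => hP (Sylow.ext (map_injective φ.injective
    (hP'.symm.trans ((congrArg (fun Q : Sylow 2 K => (Q : Subgroup K)) e).trans
      (hmapT φ hφT).symm))))
  obtain ⟨τ, hτ, hτP⟩ := hS T P P' hP hP'T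
  refine ⟨τ, hτ, ?_⟩
  set ψ : MulAut K := MulAut.conj τ⁻¹ * φ with hψdef
  have hψa : ∀ x, ψ x = τ⁻¹ * φ x * τ := fun x => by simp [hψdef]
  have hψV : ∀ v ∈ V, ψ v = v := fun v hv => by
    rw [hψa, hφV v hv, mul_assoc, h.comm_V hv hτ, inv_mul_cancel_left]
  have hψT : ∀ t ∈ (T : Subgroup K), ψ t * t⁻¹ ∈ V := fun t ht => by
    rw [hψa, show τ⁻¹ * φ t * τ * t⁻¹ =
      τ⁻¹ * (φ t * t⁻¹) * τ * (τ⁻¹ * t * τ⁻¹⁻¹ * t⁻¹) by group]
    refine mul_mem ?_ (h.comm_mem (inv_mem hτ) ht)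
    rw [mul_assoc, h.comm_V (hφT t ht) hτ, inv_mul_cancel_left]
    exact hφT t ht
  have hψTT := hmapT ψ hψT
  have hψP : (P : Subgroup K).map ψ.toMonoidHom = P := by
    have e : ((τ⁻¹ • P' : Sylow 2 K) : Subgroup K) = (P : Subgroup K).map ψ.toMonoidHom := by
      show (P' : Subgroup K).map (MulAut.conj τ⁻¹).toMonoidHom = _
      rw [hP', map_map]
      exact congrArg (fun f : K →* K => (P : Subgroup K).map f) (MonoidHom.ext fun y => rfl)
    rw [← e, ← hτP, inv_smul_smul]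
  have key : ∀ (g : K) (Q : Sylow 2 K), (Q : Subgroup K).map ψ.toMonoidHom = Q →
      ((g • Q : Sylow 2 K) : Subgroup K).map ψ.toMonoidHom = ((ψ g • Q : Sylow 2 K) : Subgroup K) := by
    intro g Q hQ
    rw [map_smul, hQ]
    rfl
  have hd : ∀ n ∈ normalizer ((T : Subgroup K) : Set K),
      ψ n ∈ normalizer ((T : Subgroup K) : Set K) ∧ n⁻¹ * ψ n ∈ (T : Subgroup K) := by
    intro n hn
    have hψn : ψ n ∈ normalizer ((T : Subgroup K) : Set K) := by
      refine Sylow.smul_eq_iff_mem_normalizer.1 (Sylow.ext ?_)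
      rw [← key n T hψTT, Sylow.smul_eq_iff_mem_normalizer.2 hn, hψTT]
    refine ⟨hψn, h.mem_T_of_trivial hS (mul_mem (inv_mem hn) hψn) (fun v hv => ?_)
      fun t ht => ?_⟩
    · have e : ψ n * v * (ψ n)⁻¹ = n * v * n⁻¹ := by
        rw [← hψV _ (h.conj_V hn hv), map_mul, map_mul, map_inv, hψV v hv]
      calc n⁻¹ * ψ n * v * (n⁻¹ * ψ n)⁻¹ = n⁻¹ * (ψ n * v * (ψ n)⁻¹) * n := by group
        _ = v := by rw [e]; group
    · have h1 := hψT _ (h.conj_T hn ht)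
      rw [map_mul, map_mul, map_inv] at h1
      have h3 := h.conj_V (inv_mem hn) (mul_mem (inv_mem (h.conj_V hψn (hψT t ht))) h1)
      convert h3 using 1
      group
  have hH : ∀ k ∈ normalizer ((T : Subgroup K) : Set K), k • P = P → ψ k = k := by
    intro k hk hkP
    obtain ⟨-, hkT⟩ := hd k hk
    have hψk : ψ k • P = P := Sylow.ext (by rw [← key k P hψP, hkP, hψP])
    have h1 : (k⁻¹ * ψ k) • P = P := by rw [mul_smul, hψk, inv_smul_eq_iff, hkP]
    exact (inv_mul_eq_one.1 (h.regular hkT hP h1)).symm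
  have hdec : ∀ n ∈ normalizer ((T : Subgroup K) : Set K), ∃ σ ∈ (T : Subgroup K),
      ∃ k ∈ normalizer ((T : Subgroup K) : Set K), k • P = P ∧ n = σ * k := by
    intro n hn
    have hnT : n • T = T := Sylow.smul_eq_iff_mem_normalizer.2 hn
    have hne : n • P ≠ T := fun e => hP (by
      rw [← inv_smul_smul n P, e, inv_smul_eq_iff.2 hnT.symm])
    obtain ⟨σ, hσ, hσP⟩ := hS T P (n • P) hP hne
    exact ⟨σ, hσ, σ⁻¹ * n, mul_mem (inv_mem (le_normalizer hσ)) hn,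
      by rw [mul_smul, ← hσP, inv_smul_smul], by group⟩
  -- the homomorphism `t ↦ ψ t * t⁻¹`
  have hf_mul : ∀ s ∈ (T : Subgroup K), ∀ t ∈ (T : Subgroup K),
      ψ (s * t) * (s * t)⁻¹ = ψ s * s⁻¹ * (ψ t * t⁻¹) := by
    intro s hs t ht
    calc ψ (s * t) * (s * t)⁻¹ = ψ s * (ψ t * t⁻¹) * s⁻¹ := by rw [map_mul]; group
      _ = ψ s * s⁻¹ * (ψ t * t⁻¹) := by
        rw [mul_assoc (ψ s), h.comm_V (hψT t ht) (inv_mem hs), ← mul_assoc]
  have hf_conj : ∀ n ∈ normalizer ((T : Subgroup K) : Set K), ∀ t ∈ (T : Subgroup K),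
      ψ (n * t * n⁻¹) * (n * t * n⁻¹)⁻¹ = n * (ψ t * t⁻¹) * n⁻¹ := by
    intro n hn t ht
    obtain ⟨σ, hσ, k, hk, hkP, rfl⟩ := hdec n hn
    have hσV := h.comm_V (hψT σ hσ) (h.conj_T hk ht)
    have hu := hψT t ht
    calc ψ (σ * k * t * (σ * k)⁻¹) * (σ * k * t * (σ * k)⁻¹)⁻¹
        = ψ σ * (k * ψ t * k⁻¹) * (ψ σ)⁻¹ * (σ * (k * t⁻¹ * k⁻¹) * σ⁻¹) := by
          simp only [map_mul, map_inv, hH k hk hkP]; group
      _ = ψ σ * σ⁻¹ * (σ * (k * ψ t * k⁻¹) * σ⁻¹) * (ψ σ * σ⁻¹)⁻¹ *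
            (σ * (k * t⁻¹ * k⁻¹) * σ⁻¹) := by group
      _ = σ * (k * ψ t * k⁻¹) * σ⁻¹ * (σ * (k * t⁻¹ * k⁻¹) * σ⁻¹) := by
          have hT' : σ * (k * ψ t * k⁻¹) * σ⁻¹ ∈ (T : Subgroup K) := by
            refine mul_mem (mul_mem hσ (h.conj_T hk ?_)) (inv_mem hσ)
            have := mul_mem (h.le hu) ht
            rwa [inv_mul_cancel_right] at this
          rw [h.comm_V (hψT σ hσ) hT', mul_inv_cancel_right]
      _ = σ * k * (ψ t * t⁻¹) * (σ * k)⁻¹ := by group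
  have hfix : ∀ t ∈ (T : Subgroup K), ψ t = t := by
    rcases h.alt with ⟨y, hy, -, hyV, hyT⟩ | ⟨-, htr⟩
    · intro t ht
      obtain ⟨s, hs, v, hv, rfl⟩ := hyT t ht
      have e2 := hf_conj y hy s⁻¹ (inv_mem hs)
      have hs' : y * s⁻¹ * y⁻¹ ∈ (T : Subgroup K) := h.conj_T hy (inv_mem hs)
      have e4 : ψ s⁻¹ * s⁻¹⁻¹ = (ψ s * s⁻¹)⁻¹ := by
        refine (inv_eq_of_mul_eq_one_right ?_).symm
        rw [← hf_mul s hs _ (inv_mem hs)]; simp
      rw [e4, (hyV _ (inv_mem (hψT s hs))).eq, mul_inv_cancel_right] at e2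
      refine mul_inv_eq_one.1 ?_
      rw [show s * y * s⁻¹ * y⁻¹ * v = s * (y * s⁻¹ * y⁻¹) * v by group,
        hf_mul _ (mul_mem hs hs') v (h.le hv), hf_mul s hs _ hs', e2, hψV v hv]
      group
    · by_contra hne
      push Not at hne
      obtain ⟨t₀, ht₀, hne₀⟩ := hne
      have hu1 : ψ t₀ * t₀⁻¹ ≠ 1 := fun e => hne₀ (mul_inv_eq_one.1 e)
      have ht₀V : t₀ ∉ V := fun e => hne₀ (hψV _ e)
      have hsq1 : t₀ * t₀ ≠ 1 := fun e => ht₀V ((h.mem_iff _).2 ⟨ht₀, e⟩)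
      obtain ⟨n₀, hn₀, hn₀e⟩ := h.trans _ (hψT t₀ ht₀) _ (h.sq_mem t₀ ht₀) hu1 hsq1
      have hsq : ∀ t ∈ (T : Subgroup K), t * t = n₀ * (ψ t * t⁻¹) * n₀⁻¹ := by
        intro t ht
        by_cases htV : t ∈ V
        · rw [h.sq htV, hψV t htV]; group
        obtain ⟨m, hm, hv⟩ := htr t₀ ht₀ ht₀V t ht htV
        set v := (m * t₀ * m⁻¹)⁻¹ * t with hvdef
        have htv : t = m * t₀ * m⁻¹ * v := by rw [hvdef]; group
        have hmT := h.conj_T hm ht₀
        have e1 : ψ t * t⁻¹ = m * (ψ t₀ * t₀⁻¹) * m⁻¹ := by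
          rw [htv, hf_mul _ hmT v (h.le hv), hf_conj m hm t₀ ht₀, hψV v hv, mul_inv_cancel,
            mul_one]
        rw [e1, h.act_comm hn₀ hm (hψT t₀ ht₀), hn₀e, htv]
        calc m * t₀ * m⁻¹ * v * (m * t₀ * m⁻¹ * v)
            = m * t₀ * m⁻¹ * (v * (m * t₀ * m⁻¹)) * v := by group
          _ = m * t₀ * m⁻¹ * (m * t₀ * m⁻¹) * (v * v) := by rw [h.comm_V hv hmT]; group
          _ = m * (t₀ * t₀) * m⁻¹ := by rw [h.sq hv]; group
      obtain ⟨s, hs, t, ht, hst⟩ := h.nonab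
      refine hst ?_
      have e := hsq _ (mul_mem hs ht)
      rw [hf_mul s hs t ht] at e
      have e' : s * t * (s * t) = s * s * (t * t) := by rw [e, hsq s hs, hsq t ht]; group
      have e'' : t * s = s * t := by
        calc t * s = s⁻¹ * (s * t * (s * t)) * t⁻¹ := by group
          _ = s * t := by rw [e']; group
      exact e''.symm
  have hN : ∀ n ∈ normalizer ((T : Subgroup K) : Set K), ψ n = n := by
    intro n hn
    obtain ⟨σ, hσ, k, hk, hkP, rfl⟩ := hdec n hn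
    rw [map_mul, hfix σ hσ, hH k hk hkP]
  have hall : ∀ Q : Sylow 2 K, (Q : Subgroup K).map ψ.toMonoidHom = Q := by
    intro Q
    by_cases hQ : Q = T
    · rw [hQ, hψTT]
    · obtain ⟨σ, hσ, rfl⟩ := hS T P Q hP hQ
      rw [key σ P hψP, hfix σ hσ]
  have hψ1 : ψ = 1 := MulEquiv.ext fun g => by
    have e : g⁻¹ * ψ g = 1 := h.eq_one_of_fix_all fun Q => by
      rw [mul_smul, inv_smul_eq_iff]
      exact Sylow.ext ((key g Q (hall Q)).symm.trans (hall _))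
    exact (inv_mul_eq_one.1 e).symm
  have : φ = MulAut.conj τ * ψ := by
    rw [hψdef, ← mul_assoc, ← map_mul, mul_inv_cancel, map_one, one_mul]
  rw [this, hψ1, mul_one]

theorem oddTrivialAt (hZ : center K = ⊥) {x : K} (hx : x ∈ V) (hx1 : x ≠ 1) :
    H21.Walter.OddTrivialAt x := by
  intro W hW hfix hn
  have hinj : ∀ y : K, MulAut.conj y = 1 → y = 1 := fun y hy =>
    (H88.Walter.conj_eq_one_iff hZ).1 hy
  have h0 : ∀ y : K, MulAut.conj y ∈ W → y = 1 := by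
    intro y hy
    have hyx : y * x * y⁻¹ = x := by simpa using hfix _ hy
    have hyC : y ∈ centralizer ({x} : Set K) :=
      mem_centralizer_singleton_iff.2 (mul_inv_eq_iff_eq_mul.1 hyx)
    have hoy : ∀ {z : K}, MulAut.conj z ∈ W → Odd (orderOf z) := fun {z} hz => by
      have h1 : orderOf (MulAut.conj z) = orderOf z :=
        orderOf_injective MulAut.conj ((injective_iff_map_eq_one _).2 hinj) z
      rw [← h1]
      exact hW.of_dvd_nat (Subgroup.orderOf_dvd_natCard W hz)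
    refine h.eq_one_of_odd_cent hS (hoy hy) fun t ht => ?_
    have htC : t ∈ centralizer ({x} : Set K) :=
      mem_centralizer_singleton_iff.2 (h.comm_V hx ht).symm
    have hz : MulAut.conj (y * t * y⁻¹ * t⁻¹) ∈ W := by
      rw [show y * t * y⁻¹ * t⁻¹ = y * (t * y⁻¹ * t⁻¹) by group, map_mul]
      refine mul_mem hy ?_
      rw [map_mul, map_mul, map_inv, map_inv]
      exact (mem_normalizer_iff.1 (hn t htC) _).1 (inv_mem hy)
    have hzT : y * t * y⁻¹ * t⁻¹ ∈ (T : Subgroup K) :=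
      mul_mem (h.conj_T (h.cent_le x hx hx1 hyC) ht) (inv_mem ht)
    obtain ⟨j, hj⟩ := T.isPGroup' ⟨_, hzT⟩
    have hz1 : y * t * y⁻¹ * t⁻¹ = 1 :=
      orderOf_eq_one_iff.1 (Nat.eq_one_of_dvd_coprimes
        ((Nat.coprime_two_left.2 (hoy hz)).pow_left j)
        (orderOf_dvd_of_pow_eq_one (by simpa using congrArg Subtype.val hj)) dvd_rfl)
    exact mul_inv_eq_iff_eq_mul.1 (mul_inv_eq_one.1 hz1)
  rw [eq_bot_iff]
  intro w hw
  have hfC : ∀ c ∈ centralizer ({x} : Set K), w c = c := by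
    intro c hc
    have hm : MulAut.conj (w c * c⁻¹) ∈ W := by
      have e : MulAut.conj (w c) = w * MulAut.conj c * w⁻¹ := MulEquiv.ext fun z => by simp
      rw [map_mul, map_inv, e, show w * MulAut.conj c * w⁻¹ * (MulAut.conj c)⁻¹ =
        w * (MulAut.conj c * w⁻¹ * (MulAut.conj c)⁻¹) by group]
      exact mul_mem hw ((mem_normalizer_iff.1 (hn c hc) _).1 (inv_mem hw))
    exact mul_inv_eq_one.1 (h0 _ hm)
  have hT : ∀ t ∈ (T : Subgroup K), w t = t := fun t ht =>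
    hfC t (mem_centralizer_singleton_iff.2 (h.comm_V hx ht).symm)
  obtain ⟨t, ht, rfl⟩ := h.inner hS (fun v hv => hT v (h.le hv))
    (fun s hs => by rw [hT s hs, mul_inv_cancel]; exact one_mem _)
  rw [mem_bot, h0 t hw, map_one]

theorem hasSinger : H77.WA.HasSinger (T : Subgroup K) V := by
  obtain ⟨y, hy, hact⟩ := h.act
  refine ⟨y, hy, fun v hv => h.conj_V hy hv, fun v hv w hw hv1 hw1 => ?_, fun φ hφ => ?_⟩
  · obtain ⟨n, hn, hnv⟩ := h.trans v hv w hw hv1 hw1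
    obtain ⟨k, hk⟩ := hact n hn
    exact ⟨k, by rw [← hk v hv, hnv]⟩
  · refine hact _ (mem_normalizer_iff.2 fun t => ?_)
    have hm : (T : Subgroup K).map φ.toMonoidHom = T :=
      eq_of_le_of_card_ge (by rintro _ ⟨t, ht, rfl⟩; exact hφ t ht)
        (by rw [card_map_of_injective φ.injective])
    obtain ⟨s, rfl⟩ := φ.surjective t
    have hiff : ∀ z, φ z ∈ (T : Subgroup K) ↔ z ∈ (T : Subgroup K) := fun z => by
      refine ⟨fun hz => ?_, hφ z⟩
      rw [← hm] at hz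
      obtain ⟨r, hr, hre⟩ := hz
      exact φ.injective hre ▸ hr
    rw [← map_inv, ← map_mul, ← map_mul, hiff, hiff]
    exact mem_normalizer_iff.1 hy s

end Model

end Cfsg.Agent.H50.WA
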